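import Cfsg.Agent.H903.SylMeet

/-!
# Group theory: `Meet 3 T` from a Sylow 3-subgroup of a subgroup `Γ` of `Aut T` (helper885)
-/

set_option autoImplicit false

namespace Cfsg.Agent.H885.Tri

open Cfsg.Agent.H903.SylMeet

theorem asm {p : ℕ} [hp : Fact p.Prime] {T : Type*} [Group T] [Finite T]
    (hinj : Function.Injective (MulAut.conj : T →* MulAut T)) (Γ P0 : Subgroup (MulAut T))
    (hinn : ∀ t : T, MulAut.conj t ∈ Γ) (hP0 : P0 ≤ Γ) (hp0 : IsPGroup p P0)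
    (hcard : p ^ (Nat.card Γ).factorization p ≤ Nat.card P0) {x : T} (hx : x * x = 1)
    (h3 : ∀ y ∈ P0, ∀ y' ∈ P0, y' * MulAut.conj x = MulAut.conj x * y → y = 1)
    (h5 : ∀ y : MulAut T, y x = x → y ∈ Γ) : Meet p T := by
  obtain ⟨S, hS⟩ := hp0.exists_le_sylow
  -- `S ⊓ Γ = P0`
  have hSΓ : ∀ y ∈ S, y ∈ Γ → y ∈ P0 := by
    have h1 : IsPGroup p ((S : Subgroup (MulAut T)) ⊓ Γ : Subgroup (MulAut T)) :=
      S.isPGroup'.to_le inf_le_left
    obtain ⟨k, hk⟩ := h1.exists_card_eq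
    have h2 : p ^ k ∣ Nat.card Γ := hk ▸ Subgroup.card_dvd_of_le inf_le_right
    have h6 : k ≤ (Nat.card Γ).factorization p :=
      (hp.out.pow_dvd_iff_le_factorization Nat.card_pos.ne').1 h2
    have h7 : P0 = (S : Subgroup (MulAut T)) ⊓ Γ := by
      apply Subgroup.eq_of_le_of_card_ge (le_inf hS hP0)
      rw [hk]
      exact (Nat.pow_le_pow_right hp.out.pos h6).trans hcard
    intro y hy hy'
    rw [h7]
    exact ⟨hy, hy'⟩
  apply meet_of_sylow S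
  refine ⟨x, fun y hy hxy => ?_⟩
  set X := MulAut.conj x with hX
  have hXX : X * X = 1 := by rw [hX, ← map_mul, hx, map_one]
  have hXi : X⁻¹ = X := inv_eq_of_mul_eq_one_left hXX
  -- `z = (x y x⁻¹) y⁻¹`
  have hz : X * y * X⁻¹ * y⁻¹ = MulAut.conj (x * (y x)⁻¹) := by
    rw [hX, conj_mul_mul_inv, mul_inv_cancel_right]
  have hzP : X * y * X⁻¹ * y⁻¹ ∈ P0 := by
    apply hSΓ
    · exact S.mul_mem hxy (S.inv_mem hy)
    · rw [hz]; exact hinn _
  have hz1 : X * y * X⁻¹ * y⁻¹ = 1 := by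
    apply h3 _ hzP _ (P0.inv_mem hzP)
    have e : (X * y * X⁻¹ * y⁻¹)⁻¹ * X = y * X * y⁻¹ * (X⁻¹ * X) := by group
    have e' : X * (X * y * X⁻¹ * y⁻¹) = (X * X) * y * X⁻¹ * y⁻¹ := by group
    rw [e, e', hXX, hXi, hXX]
    group
  have hcomm : X * y = y * X := by
    have e : X * y = X * y * X⁻¹ * y⁻¹ * (y * X) := by group
    rw [e, hz1, one_mul]
  have hyx : y x = x := by
    apply hinj
    rw [← conj_apply_aut, ← hX, ← hcomm, mul_inv_cancel_right]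
  have hyP : y ∈ P0 := hSΓ y hy (h5 y hyx)
  exact h3 y hyP y hyP hcomm.symm

end Cfsg.Agent.H885.Tri
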