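import Cfsg.Agent.ClassicalGeometry.OrthAut3

/-!
# `|UP W| ≥ q ^ 6` for totally singular subspaces of dimension four (helper885)

The proofs are those of `OrthAutCard.card_lt` and `OrthAut3.lt_card_UP` with `4 ≤ k`.
-/

set_option autoImplicit false

namespace Cfsg.Agent.H885.Tri

open QuadraticMap Cfsg.Agent.LieClassical.OrthCore Cfsg.Agent.LieClassical.OrthTrans
  Cfsg.Agent.LieClassical.OrthSimple Cfsg.Agent.LieClassical.OrthFinite
  Cfsg.Agent.ClassicalGeometry.OrthAut1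
  Cfsg.Agent.ClassicalGeometry.OrthAut2 Cfsg.Agent.ClassicalGeometry.OrthAut2b
  Cfsg.Agent.ClassicalGeometry.OrthAut3
  Cfsg.Agent.ClassicalGeometry.OrthAutCard

variable {F V : Type*} [Field F] [AddCommGroup V] [Module F V] {Q : QuadraticForm F V}

theorem card_le [Finite F] [FiniteDimensional F V] (hQ : Nondeg Q) (W : Submodule F V)
    (hW : ∀ w ∈ W, Q w = 0) {k : ℕ} (hk : Module.finrank F W = k) (hk5 : 4 ≤ k) :
    Nat.card F ^ (2 * k - 2) ≤ Nat.card (Subgroup.closure {g : V ≃ₗ[F] V |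
      ∃ (u w : V) (hu : Q u = 0) (hw : polar Q u w = 0), u ∈ W ∧ w ∈ W ∧
        g = siegel Q u w hu hw}) := by
  have hpos : ∀ U : Submodule F V, 1 ≤ Module.finrank F U → ∃ e ∈ U, e ≠ 0 := fun U hU => by
    have : Nontrivial U := Module.nontrivial_of_finrank_pos (R := F) (by omega)
    obtain ⟨x, hx⟩ := exists_ne (0 : U)
    exact ⟨x, x.2, fun h => hx (Subtype.ext h)⟩
  -- the vectors
  obtain ⟨e₁, he₁, he₁0⟩ := hpos W (by omega)
  obtain ⟨f₁, h11⟩ := hQ.exists_polar_eq he₁0 1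
  have d1 := finrank_cut (Q := Q) W f₁
  obtain ⟨e₂, he₂, he₂0⟩ := hpos (cut Q W f₁) (by omega)
  obtain ⟨f₂', h22'⟩ := hQ.exists_polar_eq he₂0 1
  have he₂' := mem_cut.1 he₂
  have h21 : polar Q e₂ f₁ = 0 := by rw [polar_comm]; exact he₂'.2
  obtain ⟨f₂, hf₂⟩ : ∃ f₂, f₂ = f₂' - polar Q e₁ f₂' • f₁ := ⟨_, rfl⟩
  have h12 : polar Q e₁ f₂ = 0 := by
    rw [hf₂, polar_sub_right, polar_smul_right, h11]; simp
  have h22 : polar Q e₂ f₂ = 1 := by
    rw [hf₂, polar_sub_right, polar_smul_right, h21, h22']; simp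
  have d2 := finrank_cut (Q := Q) (cut Q W f₁) f₂
  obtain ⟨e₃, he₃, he₃0⟩ := hpos (cut Q (cut Q W f₁) f₂) (by omega)
  obtain ⟨f₃', h33'⟩ := hQ.exists_polar_eq he₃0 1
  have he₃' := mem_cut.1 he₃
  have he₃'' := mem_cut.1 he₃'.1
  have h31 : polar Q e₃ f₁ = 0 := by rw [polar_comm]; exact he₃''.2
  have h32 : polar Q e₃ f₂ = 0 := by rw [polar_comm]; exact he₃'.2
  obtain ⟨f₃, hf₃⟩ : ∃ f₃, f₃ = f₃' - polar Q e₁ f₃' • f₁ - polar Q e₂ f₃' • f₂ := ⟨_, rfl⟩
  have h13 : polar Q e₁ f₃ = 0 := by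
    rw [hf₃, polar_sub_right, polar_sub_right, polar_smul_right, polar_smul_right, h11, h12]; simp
  have h23 : polar Q e₂ f₃ = 0 := by
    rw [hf₃, polar_sub_right, polar_sub_right, polar_smul_right, polar_smul_right, h21, h22]; simp
  have h33 : polar Q e₃ f₃ = 1 := by
    rw [hf₃, polar_sub_right, polar_sub_right, polar_smul_right, polar_smul_right, h31, h32, h33']
    simp
  have d3 := finrank_cut (Q := Q) (cut Q (cut Q W f₁) f₂) f₃
  set W₁ := cut Q W f₁ with hW₁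
  set W₂ := cut Q W₁ f₂ with hW₂
  set W₃ := cut Q W₂ f₃ with hW₃
  have m1 : ∀ w ∈ W₁, w ∈ W ∧ polar Q w f₁ = 0 := fun w hw => by
    rw [polar_comm]; exact mem_cut.1 hw
  have m2 : ∀ w ∈ W₂, w ∈ W ∧ polar Q w f₁ = 0 ∧ polar Q w f₂ = 0 := fun w hw => by
    have h := mem_cut.1 hw
    have h' := m1 w h.1
    refine ⟨h'.1, h'.2, ?_⟩
    rw [polar_comm]; exact h.2
  have m3 : ∀ w ∈ W₃, w ∈ W ∧ polar Q w f₁ = 0 ∧ polar Q w f₂ = 0 ∧ polar Q w f₃ = 0 :=
    fun w hw => by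
    have h := mem_cut.1 hw
    have h' := m2 w h.1
    refine ⟨h'.1, h'.2.1, h'.2.2, ?_⟩
    rw [polar_comm]; exact h.2
  have z : ∀ {u w : V}, u ∈ W → w ∈ W → polar Q u w = 0 := fun hu hw =>
    polar_eq_zero_of_sing hW hu hw
  -- the map
  let g : W₁ × W₂ × W₃ → (V ≃ₗ[F] V) := fun x =>
    siegel Q e₁ x.1 (hW _ he₁) (z he₁ (m1 _ x.1.2).1) *
      (siegel Q e₂ x.2.1 (hW _ he₂'.1) (z he₂'.1 (m2 _ x.2.1.2).1) *
        siegel Q e₃ x.2.2 (hW _ he₃''.1) (z he₃''.1 (m3 _ x.2.2.2).1))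
  have hg : ∀ x, g x ∈ Subgroup.closure {g : V ≃ₗ[F] V |
      ∃ (u w : V) (hu : Q u = 0) (hw : polar Q u w = 0), u ∈ W ∧ w ∈ W ∧
        g = siegel Q u w hu hw} := fun x => by
    refine mul_mem (Subgroup.subset_closure ⟨_, _, _, _, he₁, (m1 _ x.1.2).1, rfl⟩)
      (mul_mem (Subgroup.subset_closure ⟨_, _, _, _, he₂'.1, (m2 _ x.2.1.2).1, rfl⟩)
        (Subgroup.subset_closure ⟨_, _, _, _, he₃''.1, (m3 _ x.2.2.2).1, rfl⟩))
  have happ : ∀ x v, g x v = v + (polar Q e₃ v • (x.2.2 : V) - polar Q x.2.2 v • e₃) +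
      (polar Q e₂ v • (x.2.1 : V) - polar Q x.2.1 v • e₂) +
      (polar Q e₁ v • (x.1 : V) - polar Q x.1 v • e₁) := fun x v => by
    have a1 := (m1 _ x.1.2).1
    have a2 := (m2 _ x.2.1.2).1
    have a3 := (m3 _ x.2.2.2).1
    show siegel Q e₁ x.1 (hW _ he₁) (z he₁ (m1 _ x.1.2).1)
      (siegel Q e₂ x.2.1 (hW _ he₂'.1) (z he₂'.1 (m2 _ x.2.1.2).1)
        (siegel Q e₃ x.2.2 (hW _ he₃''.1) (z he₃''.1 (m3 _ x.2.2.2).1) v)) = _
    rw [siegel_apply_of_mem hW _ _ a1, siegel_apply_of_mem hW _ _ a2,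
      siegel_apply_of_mem hW _ _ a3]
    simp only [polar_add_right, polar_sub_right, polar_smul_right, z he₁ a2, z he₁ a3,
      z he₁ he₂'.1, z he₁ he₃''.1, z he₂'.1 a3, z he₂'.1 he₃''.1, z a1 a2, z a1 a3, z a1 he₂'.1,
      z a1 he₃''.1, z a2 a3, z a2 he₃''.1, smul_eq_mul, mul_zero, sub_zero, add_zero]
  have hinj : Function.Injective g := by
    intro x y hxy
    have e1 := DFunLike.congr_fun hxy f₁
    rw [happ, happ, h11, h21, h31, (m1 _ x.1.2).2, (m2 _ x.2.1.2).2.1, (m3 _ x.2.2.2).2.1,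
      (m1 _ y.1.2).2, (m2 _ y.2.1.2).2.1, (m3 _ y.2.2.2).2.1] at e1
    simp only [zero_smul, sub_zero, add_zero, one_smul, add_right_inj] at e1
    have e2 := DFunLike.congr_fun hxy f₂
    rw [happ, happ, h12, h22, h32, (m2 _ x.2.1.2).2.2, (m3 _ x.2.2.2).2.2.1,
      (m2 _ y.2.1.2).2.2, (m3 _ y.2.2.2).2.2.1, e1] at e2
    simp only [zero_smul, sub_zero, add_zero, one_smul, add_left_inj, add_right_inj] at e2
    have e3 := DFunLike.congr_fun hxy f₃
    rw [happ, happ, h13, h23, h33, (m3 _ x.2.2.2).2.2.2, (m3 _ y.2.2.2).2.2.2, e1, e2] at e3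
    simp only [zero_smul, sub_zero, one_smul, add_left_inj, add_right_inj] at e3
    exact Prod.ext (Subtype.ext e1) (Prod.ext (Subtype.ext e2) (Subtype.ext e3))
  have : Finite V := Module.finite_of_finite F
  have hfin : Finite (V ≃ₗ[F] V) := Finite.of_injective (fun f : V ≃ₗ[F] V => (f : V → V))
    DFunLike.coe_injective
  have hle : Nat.card (W₁ × W₂ × W₃) ≤ Nat.card (Subgroup.closure {g : V ≃ₗ[F] V |
      ∃ (u w : V) (hu : Q u = 0) (hw : polar Q u w = 0), u ∈ W ∧ w ∈ W ∧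
        g = siegel Q u w hu hw}) :=
    Nat.card_le_card_of_injective (fun x => ⟨g x, hg x⟩)
      (fun x y h => hinj (congrArg Subtype.val h))
  refine le_trans ?_ hle
  rw [Nat.card_prod, Nat.card_prod]
  have c1 : Nat.card F ^ (k - 1) ≤ Nat.card W₁ := pow_le_card_cut (by omega)
  have c2 : Nat.card F ^ (k - 2) ≤ Nat.card W₂ := pow_le_card_cut (by omega)
  have c3 : Nat.card F ^ (k - 3) ≤ Nat.card W₃ := pow_le_card_cut (by omega)
  calc Nat.card F ^ (2 * k - 2) ≤ Nat.card F ^ ((k - 1) + ((k - 2) + (k - 3))) :=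
        Nat.pow_le_pow_right Finite.card_pos (by omega)
    _ = Nat.card F ^ (k - 1) * (Nat.card F ^ (k - 2) * Nat.card F ^ (k - 3)) := by
        rw [pow_add, pow_add]
    _ ≤ _ := Nat.mul_le_mul c1 (Nat.mul_le_mul c2 c3)

/-- Lower bound for `UP W`, `W` totally singular of dimension at least four. -/
theorem le_card_UP [Finite F] [FiniteDimensional F V] (hG : Good Q) {W : Submodule F V}
    (hW : TS Q W) (hk5 : 4 ≤ Module.finrank F W) :
    Nat.card F ^ (2 * Module.finrank F W - 2) ≤ Nat.card (UP Q W) := by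
  have h1 := card_le hG.nondeg W hW rfl hk5
  refine h1.trans ?_
  set C := Subgroup.closure {g : V ≃ₗ[F] V | ∃ (u w : V) (hu : Q u = 0) (hw : polar Q u w = 0),
    u ∈ W ∧ w ∈ W ∧ g = siegel Q u w hu hw} with hC
  have hCE : C ≤ E Q := by
    rw [hC, Subgroup.closure_le]
    rintro _ ⟨u, w, hu, hw, -, -, rfl⟩
    exact siegel_mem_E hu hw
  have hCU : ∀ g (hg : g ∈ C), (⟨g, hCE hg⟩ : ↥(E Q)) ∈ U Q W := by
    have h2 : C ≤ (U Q W).map (E Q).subtype := by
      rw [hC, Subgroup.closure_le]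
      rintro _ ⟨u, w, hu, hw, huW, hwW, rfl⟩
      exact ⟨sg u w hu hw, sg_mem_U hW huW (fun v hv => hW.polar hwW hv) hu hw, rfl⟩
    intro g hg
    obtain ⟨g', hg', e⟩ := h2 hg
    have : g' = ⟨g, hCE hg⟩ := Subtype.ext e
    rw [← this]; exact hg'
  have hfinP : Finite (P Q) := finite_P
  have hW0 : ∃ w ∈ W, w ≠ 0 := by
    have : Nontrivial W := Module.nontrivial_of_finrank_pos (R := F) (by omega)
    obtain ⟨x, hx⟩ := exists_ne (0 : W)
    exact ⟨x, x.2, fun h => hx (Subtype.ext h)⟩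
  obtain ⟨w0, hw0, hw00⟩ := hW0
  let φ : C → UP Q W := fun g => ⟨((⟨g, hCE g.2⟩ : ↥(E Q)) : P Q), ⟨_, hCU g g.2, rfl⟩⟩
  have hφ : Function.Injective φ := by
    rintro ⟨g, hg⟩ ⟨g', hg'⟩ h
    have h2 : ((⟨g, hCE hg⟩ : ↥(E Q)) : P Q) = ((⟨g', hCE hg'⟩ : ↥(E Q)) : P Q) :=
      congrArg Subtype.val h
    rw [QuotientGroup.eq] at h2
    obtain ⟨c, hc⟩ := center_scalar hG h2
    have h3 : g.symm (g' w0) = c • w0 := hc w0
    have h4 : g' w0 = w0 := (hCU g' hg').1 w0 hw0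
    have h5 : g w0 = w0 := (hCU g hg).1 w0 hw0
    rw [h4, LinearEquiv.symm_apply_eq, map_smul, h5] at h3
    have h6 : c = 1 := by
      have h7 : (1 - c) • w0 = 0 := by rw [sub_smul, one_smul, ← h3, sub_self]
      rcases smul_eq_zero.1 h7 with h8 | h8
      · exact (sub_eq_zero.1 h8).symm
      · exact absurd h8 hw00
    apply Subtype.ext
    ext v
    have h7 : g.symm (g' v) = c • v := hc v
    rw [h6, one_smul, LinearEquiv.symm_apply_eq] at h7
    exact h7.symm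
  exact Nat.card_le_card_of_injective φ hφ

/-- `α` maps the radical of a singular point to the radical of a totally singular subspace of dimension four. -/
theorem map_UP_four [Finite F] [FiniteDimensional F V] (hG : Good Q)
    (h8 : Module.finrank F V = 8) (α : MulAut (P Q)) {x : V} (hx : Q x = 0) (hx0 : x ≠ 0)
    {W : Submodule F V} (hW : TS Q W) (hW4 : Module.finrank F W = 4)
    (h : (stab hG (Submodule.span F {x})).map α.toMonoidHom = stab hG W) {t : P Q}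
    (ht : t ∈ UP Q (Submodule.span F {x})) : α t ∈ UP Q W := by
  have hfinP : Finite (P Q) := finite_P
  have h1 := map_symm_UP_le hG (by omega) α hx hx0 h
  have h2 := le_card_UP hG hW hW4.ge
  have h3 := card_UP_span_le hG hx hx0
  rw [hW4] at h2
  rw [h8] at h3
  have e : Nat.card ((UP Q W).map α.symm.toMonoidHom) = Nat.card (UP Q W) :=
    Subgroup.card_map_of_injective α.symm.injective
  have h4 : (UP Q W).map α.symm.toMonoidHom = UP Q (Submodule.span F {x}) := by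
    apply Subgroup.eq_of_le_of_card_ge h1
    rw [e]
    exact h3.trans h2
  rw [← h4] at ht
  obtain ⟨s, hs, rfl⟩ := ht
  have : α (α.symm.toMonoidHom s) = s := α.apply_symm_apply s
  rw [this]
  exact hs

end Cfsg.Agent.H885.Tri
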