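import Cfsg.Agent.H885.Tri.Grp

/-!
# The order of `C F` (helper885)
-/

set_option autoImplicit false

namespace Cfsg.Agent.H885.Tri

variable {F : Type*} [Field F]

/-- An injection of `Fˣ` into the elements of norm one, if `F` has a primitive cube root of one. -/
theorem exists_hom (h3 : (3 : F) ≠ 0) {ρ : F} (hρ : ρ ^ 2 + ρ + 1 = 0) :
    ∃ Z : Fˣ →* (K F)ˣ, Function.Injective Z ∧
      ∀ s, QuadraticAlgebra.norm ((Z s : (K F)ˣ) : K F) = 1 := by
  -- the idempotents
  let e₁ : K F := ⟨(1 - ρ) / 3, -(2 * ρ + 1) / 3⟩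
  let e₂ : K F := ⟨(2 + ρ) / 3, (2 * ρ + 1) / 3⟩
  have h12 : e₁ + e₂ = 1 := by
    ext
    · simp [e₁, e₂, QuadraticAlgebra.re_one]; field_simp; ring
    · simp [e₁, e₂, QuadraticAlgebra.im_one]; field_simp; ring
  have hm : e₁ * e₂ = 0 := by
    ext
    · simp [e₁, e₂]; field_simp; linear_combination (3 : F) * hρ
    · simp [e₁, e₂]; field_simp; linear_combination (0 : F) * hρ
  have h11 : e₁ * e₁ = e₁ := by
    have : e₁ * (e₁ + e₂) = e₁ := by rw [h12, mul_one]
    rwa [mul_add, hm, add_zero] at this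
  have h22 : e₂ * e₂ = e₂ := by
    have : (e₁ + e₂) * e₂ = e₂ := by rw [h12, one_mul]
    rwa [add_mul, hm, zero_add] at this
  have hm' : e₂ * e₁ = 0 := by rw [mul_comm, hm]
  let Z₀ : Fˣ →* K F :=
    { toFun := fun s => (s : F) • e₁ + ((s⁻¹ : Fˣ) : F) • e₂
      map_one' := by simp [h12]
      map_mul' := fun s t => by
        simp only [mul_add, add_mul, smul_mul_smul_comm, h11, h22, hm, hm', smul_zero, add_zero,
          zero_add, mul_inv_rev, Units.val_mul]
        rw [mul_comm ((t⁻¹ : Fˣ) : F)] }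
  refine ⟨Z₀.toHomUnits, ?_, ?_⟩
  · intro s t hst
    have h1 : Z₀ s = Z₀ t := congrArg (fun z : (K F)ˣ => (z : K F)) hst
    have h2 : Z₀ s * e₁ = Z₀ t * e₁ := by rw [h1]
    have h4 : ∀ s : Fˣ, Z₀ s * e₁ = (s : F) • e₁ := by
      intro s
      show ((s : F) • e₁ + ((s⁻¹ : Fˣ) : F) • e₂) * e₁ = _
      rw [add_mul, smul_mul_assoc, smul_mul_assoc, h11, hm', smul_zero, add_zero]
    rw [h4, h4, ← sub_eq_zero, ← sub_smul] at h2
    rcases smul_eq_zero.1 h2 with h5 | h5
    · exact Units.ext (sub_eq_zero.1 h5)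
    · exfalso
      have h6 : (1 - ρ) / 3 = 0 := congrArg QuadraticAlgebra.re h5
      have h7 : -(2 * ρ + 1) / 3 = 0 := congrArg QuadraticAlgebra.im h5
      have h8 : (1 - ρ) = 0 := (div_eq_zero_iff.1 h6).resolve_right h3
      have h9 : -(2 * ρ + 1) = 0 := (div_eq_zero_iff.1 h7).resolve_right h3
      apply h3
      linear_combination -h9 + 2 * h8
  · intro s
    show QuadraticAlgebra.norm ((s : F) • e₁ + ((s⁻¹ : Fˣ) : F) • e₂) = 1
    have hs : (s : F) * ((s⁻¹ : Fˣ) : F) = 1 := Units.mul_inv s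
    rw [norm_eq]
    simp only [QuadraticAlgebra.re_add, QuadraticAlgebra.im_add, QuadraticAlgebra.re_smul,
      QuadraticAlgebra.im_smul, smul_eq_mul, e₁, e₂]
    generalize ((s⁻¹ : Fˣ) : F) = t at hs ⊢
    generalize (s : F) = s at hs ⊢
    field_simp
    linear_combination (3 * s ^ 2 + 3 * t ^ 2 - 6 * s * t) * hρ + 9 * hs

/-- `(q ^ 2 - 1)_3 ≤ |C|`. -/
theorem card_C_ge [Finite F] (h3 : (3 : F) ≠ 0) :
    3 ^ (Nat.card F ^ 2 - 1).factorization 3 ≤ Nat.card (C F) := by
  classical
  have hF : Fact (Nat.Prime 3) := ⟨Nat.prime_three⟩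
  have := Fintype.ofFinite F
  set q := Nat.card F with hq
  have hq1 : 1 < q := Finite.one_lt_card
  have hcu : Nat.card Fˣ = q - 1 := by
    rw [Nat.card_units]
  have hfin : Finite (K F)ˣ := inferInstance
  have hfac : q ^ 2 - 1 = (q - 1) * (q + 1) := by
    have key : ∀ r : ℕ, 1 < r → r ^ 2 - 1 = (r - 1) * (r + 1) := by
      intro r hr
      obtain ⟨k, rfl⟩ : ∃ k, r = k + 1 := ⟨r - 1, by omega⟩
      have : (k + 1) ^ 2 = k * (k + 2) + 1 := by ring
      rw [this, Nat.add_sub_cancel, Nat.add_sub_cancel]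
    exact key q hq1
  by_cases hd : 3 ∣ q - 1
  · -- split case
    obtain ⟨g, hg⟩ := exists_prime_orderOf_dvd_card' 3 (by rw [hcu]; exact hd)
    have hg3 : (g : F) ^ 3 = 1 := by
      rw [← Units.val_pow_eq_pow_val, ← hg, pow_orderOf_eq_one, Units.val_one]
    have hg1 : (g : F) ≠ 1 := by
      intro h
      rw [Units.val_eq_one] at h
      rw [h, orderOf_one] at hg
      omega
    have hρ : (g : F) ^ 2 + (g : F) + 1 = 0 := by
      have : ((g : F) - 1) * ((g : F) ^ 2 + (g : F) + 1) = 0 := by linear_combination hg3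
      exact (mul_eq_zero.1 this).resolve_left (sub_ne_zero.2 hg1)
    obtain ⟨Z, hZ, hN⟩ := exists_hom h3 hρ
    obtain ⟨P⟩ : Nonempty (Sylow 3 Fˣ) := inferInstance
    have h1 : (P : Subgroup Fˣ).map Z ≤ C F := by
      rintro _ ⟨s, hs, rfl⟩
      refine ⟨hN s, ?_⟩
      obtain ⟨k, hk⟩ := P.isPGroup' ⟨s, hs⟩
      refine ⟨k, ?_⟩
      rw [← map_pow, show s ^ 3 ^ k = 1 from congrArg Subtype.val hk, map_one]
    have h2 := Subgroup.card_le_of_le h1
    rw [Subgroup.card_map_of_injective hZ] at h2
    have h4 : Nat.card (P : Subgroup Fˣ) = 3 ^ (q - 1).factorization 3 := by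
      rw [← hcu]; exact Sylow.card_eq_multiplicity P
    rw [h4] at h2
    refine le_trans ?_ h2
    apply Nat.pow_le_pow_right (by norm_num)
    rw [hfac, Nat.factorization_mul (by omega) (by omega), Finsupp.add_apply,
      Nat.factorization_eq_zero_of_not_dvd (n := q + 1) (by omega), add_zero]
  · -- nonsplit case
    have hK : ∀ z : K F, z ≠ 0 → QuadraticAlgebra.norm z ≠ 0 := by
      intro z hz hn
      apply hd
      rw [norm_eq] at hn
      have hb : z.im ≠ 0 := by
        intro hb
        rw [hb] at hn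
        apply hz
        ext
        · simpa using hn
        · exact hb
      -- `- re / im` is a root of `x ^ 2 + x + 1`
      have hx : (-(z.re / z.im)) ^ 2 + (-(z.re / z.im)) + 1 = 0 := by
        field_simp
        linear_combination hn
      generalize -(z.re / z.im) = x at hx
      have hx0 : x ≠ 0 := by
        rintro rfl
        simp at hx
      have hx3 : x ^ 3 = 1 := by linear_combination (x - 1) * hx
      have hx1 : x ≠ 1 := by
        rintro rfl
        apply h3
        linear_combination hx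
      have ho : orderOf (Units.mk0 x hx0) = 3 := by
        apply orderOf_eq_prime
        · apply Units.ext
          simpa using hx3
        · intro h
          apply hx1
          have := congrArg (fun y : Fˣ => (y : F)) h
          simpa using this
      rw [← hcu, ← ho]
      exact orderOf_dvd_natCard _
    have hcard : Nat.card (K F)ˣ = q ^ 2 - 1 := by
      have e : (K F)ˣ ≃ {z : K F // z ≠ 0} :=
        { toFun := fun z => ⟨z, fun h0 => by
            have h1 := congrArg QuadraticAlgebra.norm (Units.mul_inv z)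
            rw [h0, zero_mul, QuadraticAlgebra.norm_zero, map_one] at h1
            exact zero_ne_one h1⟩
          invFun := fun z => (QuadraticAlgebra.isUnit_iff_norm_isUnit.2
            (isUnit_iff_ne_zero.2 (hK z.1 z.2))).unit
          left_inv := fun z => Units.ext rfl
          right_inv := fun z => rfl }
      have e2 : Nat.card (K F) = q ^ 2 := by
        rw [Nat.card_congr (QuadraticAlgebra.equivProd (-1 : F) (-1)), Nat.card_prod, ← hq, pow_two]
      rw [Nat.card_congr e, ← e2]
      have := Fintype.ofFinite (K F)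
      rw [Nat.card_eq_fintype_card, Nat.card_eq_fintype_card, Fintype.card_subtype_compl,
        Fintype.card_subtype_eq]
    obtain ⟨P⟩ : Nonempty (Sylow 3 (K F)ˣ) := inferInstance
    have h1 : (P : Subgroup (K F)ˣ) ≤ C F := by
      intro z hz
      obtain ⟨k, hk⟩ := P.isPGroup' ⟨z, hz⟩
      have hk' : z ^ 3 ^ k = 1 := congrArg Subtype.val hk
      refine ⟨?_, k, hk'⟩
      have h2 : (QuadraticAlgebra.norm (z : K F)) ^ 3 ^ k = 1 := by
        rw [← map_pow, ← Units.val_pow_eq_pow_val, hk', Units.val_one, map_one]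
      have hn0 : QuadraticAlgebra.norm (z : K F) ≠ 0 := by
        intro h0
        rw [h0, zero_pow (by positivity)] at h2
        exact zero_ne_one h2
      set w := Units.mk0 _ hn0 with hw
      have h4 : w ^ 3 ^ k = 1 := by
        apply Units.ext
        simpa [hw] using h2
      have h5 : w ^ (q - 1) = 1 := by rw [← hcu, pow_card_eq_one']
      have h6 := pow_gcd_eq_one.2 ⟨h4, h5⟩
      have h7 : Nat.gcd (3 ^ k) (q - 1) = 1 :=
        Nat.Coprime.pow_left _ ((Nat.Prime.coprime_iff_not_dvd Nat.prime_three).2 hd)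
      rw [h7, pow_one] at h6
      exact congrArg (fun y : Fˣ => (y : F)) h6
    have h2 := Subgroup.card_le_of_le h1
    rwa [Sylow.card_eq_multiplicity P, hcard] at h2

end Cfsg.Agent.H885.Tri
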