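import Cfsg.Agent.H885.Tri.Card
import Cfsg.Agent.AutOrth.Main

/-!
# An automorphism commuting with a product of two perpendicular reflections (helper885)

In dimension eight, let `x = t_u t_v` with `Q u = Q v = n ≠ 0`, `u ⊥ v`. An automorphism of `P Q`
which fixes (the image of) `x` is not a triality automorphism: it permutes the stabilisers of the
singular points.
-/

set_option autoImplicit false

namespace Cfsg.Agent.H885.Tri

open QuadraticMap Cfsg.Agent.LieClassical.OrthCore Cfsg.Agent.LieClassical.OrthTrans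
  Cfsg.Agent.LieClassical.OrthSimple Cfsg.Agent.LieClassical.OrthFinite
  Cfsg.Agent.ClassicalGeometry.OrthAut1
  Cfsg.Agent.ClassicalGeometry.OrthAut2 Cfsg.Agent.ClassicalGeometry.OrthAut2b
  Cfsg.Agent.ClassicalGeometry.OrthAut3
  Cfsg.Agent.ClassicalGeometry.OrthAutCard
  Cfsg.Agent.ClassicalGeometry.TrialityIndex
  Cfsg.Agent.AutOrth.Main

variable {F V : Type*} [Field F] [AddCommGroup V] [Module F V] {Q : QuadraticForm F V}

/-- A totally singular 4-space in dimension 8 is its own orthogonal space. -/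
theorem mem_of_polar_eq_zero [FiniteDimensional F V] (hQ : Nondeg Q)
    (h8 : Module.finrank F V = 8) {W : Submodule F V} (hW : TS Q W)
    (hW4 : Module.finrank F W = 4) {u : V} (hu : ∀ w ∈ W, polar Q w u = 0) : u ∈ W := by
  have hnd : (polarBilin Q).Nondegenerate := by
    refine ⟨fun a ha => hQ a ha, fun a ha => hQ a fun b => ?_⟩
    rw [polar_comm]
    exact ha b
  have h1 := LinearMap.BilinForm.finrank_orthogonal hnd W
  have h2 : W ≤ LinearMap.BilinForm.orthogonal (polarBilin Q) W := by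
    intro w hw
    rw [LinearMap.BilinForm.mem_orthogonal_iff]
    intro v hv
    exact hW.polar hv hw
  have h3 : W = LinearMap.BilinForm.orthogonal (polarBilin Q) W := by
    apply Submodule.eq_of_le_of_finrank_eq h2
    omega
  rw [h3, LinearMap.BilinForm.mem_orthogonal_iff]
  exact fun v hv => hu v hv

/-- If `α` does not permute the point stabilisers, it maps each of them to the stabiliser of a
totally singular 4-space. -/
theorem four_of_not_pt [Finite F] [FiniteDimensional F V] (hG : Good Q)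
    (h7 : 7 ≤ Module.finrank F V) {α : MulAut (P Q)} (hα : ¬ Pt hG α) {z : V} (hz : Q z = 0)
    (hz0 : z ≠ 0) : ∃ W : Submodule F V, TS Q W ∧ Module.finrank F W = 4 ∧
      (stab hG (Submodule.span F {z})).map α.toMonoidHom = stab hG W := by
  unfold Pt at hα
  push Not at hα
  obtain ⟨x, hx, hx0, hno⟩ := hα
  rcases dichotomy hG h7 α hx hx0 with ⟨y, hy, hy0, h⟩ | ⟨-, W, hW, hW4, h⟩
  · exact absurd h (hno y hy hy0)
  · obtain ⟨g, hg, e⟩ := hG.trans_sing hx hz hx0 hz0
    set p : P Q := ((⟨g, hg⟩ : ↥(E Q)) : P Q) with hp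
    have h1 : stab hG (Submodule.span F {z}) =
        (stab hG (Submodule.span F {x})).map (MulAut.conj p).toMonoidHom := by
      rw [map_conj_stab, hp, pact_mk, mapHom_span]
      show _ = stab hG (Submodule.span F {g x})
      rw [e]
    obtain ⟨g', hg'⟩ := QuotientGroup.mk_surjective (α p)
    refine ⟨W.map (g' : V ≃ₗ[F] V).toLinearMap, ?_, ?_, ?_⟩
    · rintro _ ⟨w, hw, rfl⟩
      exact (Q_apply g' w).trans (hW w hw)
    · rw [← hW4]
      exact LinearEquiv.finrank_map_eq (g' : V ≃ₗ[F] V) W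
    · rw [h1, ← map_mulAut_mul, mul_conj, map_mulAut_mul, h, map_conj_stab, ← hg', pact_mk]
      rfl

/-- Elements of `UP W` fix the vectors of `W`. -/
theorem UP_le_stab_span (hG : Good Q) {W : Submodule F V} {r : V} (hr : r ∈ W) :
    UP Q W ≤ stab hG (Submodule.span F {r}) := by
  rintro _ ⟨g, hg, rfl⟩
  have h1 : (g : V ≃ₗ[F] V) r = r := hg.1 r hr
  show pact hG ((g : ↥(E Q)) : P Q) _ = _
  rw [pact_mk, mapHom_span, h1]

theorem pt_of_comm [Finite F] [FiniteDimensional F V] (hG : Good Q)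
    (h8 : Module.finrank F V = 8) {u v : V} {n : F} (hn : n ≠ 0) (hu : Q u = n) (hv : Q v = n)
    (huv : polar Q u v = 0) (hind : ∀ t : F, t • u + v ≠ 0) {x : ↥(E Q)}
    (hx : ∀ w, (x : V ≃ₗ[F] V) w =
      w - (n⁻¹ * polar Q w u) • u - (n⁻¹ * polar Q w v) • v)
    {p : Fin 3 → V} (hp : ∀ i, Q (p i) = 0) (hpu : ∀ i, polar Q (p i) u = 0)
    (hpv : ∀ i, polar Q (p i) v = 0) (hpp : ∀ i j, i ≠ j → polar Q (p i) (p j) ≠ 0)
    (α : MulAut (P Q)) (hα : α (x : P Q) = (x : P Q)) : Pt hG α := by
  by_contra hcon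
  have hp0 : ∀ i, p i ≠ 0 := by
    intro i h0
    have h1 : ∃ j, i ≠ j := by
      obtain ⟨j, hj⟩ := exists_ne i
      exact ⟨j, hj.symm⟩
    obtain ⟨j, hj⟩ := h1
    apply hpp i j hj
    rw [h0, polar_zero_left]
  choose W hW hW4 hst using fun i => four_of_not_pt hG (by omega) hcon (hp i) (hp0 i)
  -- `x` stabilises `W i`
  have hxW : ∀ i, ∀ w ∈ W i, (x : V ≃ₗ[F] V) w ∈ W i := by
    intro i w hw
    have h1 : (x : P Q) ∈ stab hG (Submodule.span F {p i}) := by
      rw [mem_stab, pact_mk, mapHom_span, hx, hpu, hpv]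
      simp
    have h2 : (x : P Q) ∈ stab hG (W i) := by
      rw [← hst i]
      exact ⟨_, h1, hα⟩
    exact apply_mem_of_mem_stab h2 hw
  -- `W i` meets `⟨u, v⟩`
  have key : ∀ i, ∃ t : F, t ^ 2 = -1 ∧ t • u + v ∈ W i := by
    intro i
    obtain ⟨w, hw, hw'⟩ : ∃ w ∈ W i, ¬ (polar Q w u = 0 ∧ polar Q w v = 0) := by
      by_contra hc
      push Not at hc
      have h1 : u ∈ W i := mem_of_polar_eq_zero hG.nondeg h8 (hW i) (hW4 i)
        fun w hw => (hc w hw).1
      exact hn (hu.symm.trans (hW i u h1))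
    have h1 := (W i).sub_mem hw (hxW i w hw)
    rw [hx] at h1
    have h2 : w - (w - (n⁻¹ * polar Q w u) • u - (n⁻¹ * polar Q w v) • v) =
        (n⁻¹ * polar Q w u) • u + (n⁻¹ * polar Q w v) • v := by abel
    rw [h2] at h1
    set a := n⁻¹ * polar Q w u with ha
    set b := n⁻¹ * polar Q w v with hb
    have h3 := hW i _ h1
    rw [Q_add, QuadraticMap.map_smul, QuadraticMap.map_smul, hu, hv, polar_smul_left,
      polar_smul_right, huv] at h3
    simp only [smul_eq_mul, mul_zero, add_zero] at h3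
    have h4 : a * a + b * b = 0 := by
      have : (a * a + b * b) * n = 0 := by linear_combination h3
      exact (mul_eq_zero.1 this).resolve_right hn
    have hb0 : b ≠ 0 := by
      intro hb0
      rw [hb0] at h4
      have ha0 : a = 0 := by simpa using h4
      apply hw'
      exact ⟨(mul_eq_zero.1 ha0).resolve_left (inv_ne_zero hn),
        (mul_eq_zero.1 hb0).resolve_left (inv_ne_zero hn)⟩
    refine ⟨a / b, ?_, ?_⟩
    · rw [div_pow, div_eq_iff (pow_ne_zero 2 hb0)]
      linear_combination h4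
    · have h5 := (W i).smul_mem b⁻¹ h1
      rw [smul_add, smul_smul, smul_smul, inv_mul_cancel₀ hb0, one_smul] at h5
      rwa [div_eq_inv_mul]
  choose t ht htW using key
  -- two of the three are equal
  have hpig : ∃ i j, i ≠ j ∧ t i = t j := by
    have h1 : t 0 = t 1 ∨ t 0 = - t 1 := by
      apply sq_eq_sq_iff_eq_or_eq_neg.1
      rw [ht, ht]
    have h2 : t 0 = t 2 ∨ t 0 = - t 2 := by
      apply sq_eq_sq_iff_eq_or_eq_neg.1
      rw [ht, ht]
    rcases h1 with h1 | h1
    · exact ⟨0, 1, by decide, h1⟩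
    · rcases h2 with h2 | h2
      · exact ⟨0, 2, by decide, h2⟩
      · refine ⟨1, 2, by decide, ?_⟩
        rw [h1] at h2
        exact neg_injective h2
  obtain ⟨i, j, hij, htt⟩ := hpig
  set r := t i • u + v with hr
  have hri : r ∈ W i := htW i
  have hrj : r ∈ W j := by rw [hr, htt]; exact htW j
  have hUPi : ∀ k, r ∈ W k → UP Q (Submodule.span F {p k}) ≤
      (stab hG (Submodule.span F {r})).comap α.toMonoidHom := by
    intro k hk s hs
    have h1 := map_UP_four hG h8 α (hp k) (hp0 k) (hW k) (hW4 k) (hst k) hs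
    exact UP_le_stab_span hG hk h1
  have htop := eq_top_of_opp hG (hp i) (hp j) (hpp i j hij) (hUPi i hri) (hUPi j hrj)
  apply stab_ne_top hG (TS_span (hW i r hri)) (Submodule.mem_span_singleton_self r) (hind (t i))
  rw [eq_top_iff]
  rintro s -
  obtain ⟨s', rfl⟩ := α.surjective s
  have : s' ∈ (stab hG (Submodule.span F {r})).comap α.toMonoidHom := by rw [htop]; trivial
  exact this

end Cfsg.Agent.H885.Tri
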