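import Cfsg.Agent.H885.Tri.Iso

/-!
# The model is isometric to `plusForm 4 F` (helper885)
-/

set_option autoImplicit false

namespace Cfsg.Agent.H885.Tri

open QuadraticMap Cfsg.Agent.LieClassical.OrthCore Cfsg.Agent.LieClassical.QuadForms

variable {F : Type*} [Field F]

/-- Over a finite field of characteristic not three, `-1` is a norm. -/
theorem exists_norm_neg_one [Finite F] (h3 : (3 : F) ≠ 0) :
    ∃ κ : K F, QuadraticAlgebra.norm κ = -1 := by
  classical
  have := Fintype.ofFinite F
  by_cases h2 : (2 : F) = 0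
  · refine ⟨1, ?_⟩
    rw [map_one]
    linear_combination h2
  · have hodd : Fintype.card F % 2 = 1 := FiniteField.odd_card_of_char_ne_two (by
      intro hc
      apply h2
      have := ringChar.Nat.cast_ringChar (R := F)
      rw [hc] at this
      exact_mod_cast this)
    obtain ⟨a, b, hab⟩ := FiniteField.exists_root_sum_quadratic (R := F)
      (f := Polynomial.X ^ 2) (g := Polynomial.C 3 * Polynomial.X ^ 2 + Polynomial.C 4)
      (Polynomial.degree_X_pow 2)
      (by
        have := Polynomial.degree_quadratic (R := F) (a := 3) (b := 0) (c := 4) h3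
        simpa using this) hodd
    simp only [Polynomial.eval_pow, Polynomial.eval_X, Polynomial.eval_add, Polynomial.eval_mul,
      Polynomial.eval_C] at hab
    refine ⟨⟨(a + b) / 2, b⟩, ?_⟩
    rw [norm_eq]
    simp only
    have h4 : (4 : F) ≠ 0 := by
      have : (4 : F) = 2 * 2 := by norm_num
      rw [this]; exact mul_ne_zero h2 h2
    field_simp
    linear_combination hab

/-- The isometry. -/
def hyp (κ : K F) : (Fin 4 → K F) →ₗ[F] (Fin 4 ⊕ Fin 4 → F) where
  toFun w := fun i =>
    let s : K F := w 0 - κ * w 1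
    let m : K F := w 0 + ⟨0, 1⟩ * s
    let s' : K F := w 2 - κ * w 3
    let m' : K F := w 2 + ⟨0, 1⟩ * s'
    Sum.elim ![2 * m.re - m.im, 2 * m.im - m.re, 2 * m'.re - m'.im, 2 * m'.im - m'.re]
      ![s.re, s.im, s'.re, s'.im] i
  map_add' w w' := by
    funext i
    rcases i with i | i <;> fin_cases i <;> simp <;> ring
  map_smul' a w := by
    funext i
    rcases i with i | i <;> fin_cases i <;> simp <;> ring

theorem hyp_form {κ : K F} (hκ : QuadraticAlgebra.norm κ = -1) (w : Fin 4 → K F) :
    plusForm 4 F (hyp κ w) = QK w := by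
  rw [plusForm_apply, QK, Fin.sum_univ_four, Fin.sum_univ_four]
  rw [norm_eq] at hκ
  simp only [norm_eq]
  simp [hyp]
  linear_combination (-((w 1).re * (w 1).re - (w 1).re * (w 1).im + (w 1).im * (w 1).im) -
    ((w 3).re * (w 3).re - (w 3).re * (w 3).im + (w 3).im * (w 3).im)) * hκ

theorem star_star' (z : K F) : star (star z) = z := by
  ext <;> simp

/-- The polar form of the model is nondegenerate. -/
theorem QK_nondeg (h3 : (3 : F) ≠ 0) {w : Fin 4 → K F} (hw : ∀ w', polar QK w w' = 0) :
    w = 0 := by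
  funext j
  have h1 : ∀ z : K F, tr (w j * star z) = 0 := by
    intro z
    have h2 := hw (Pi.single j z)
    rw [polar_QK, Finset.sum_eq_single j] at h2
    · rwa [Pi.single_eq_same] at h2
    · intro i _ hi
      rw [Pi.single_eq_of_ne hi, star_zero, mul_zero]
      simp [tr]
    · intro hc
      exact absurd (Finset.mem_univ _) hc
  have e1 := h1 ⟨1, 0⟩
  have e2 := h1 ⟨0, 1⟩
  simp [tr] at e1 e2
  have k1 : 3 * (w j).im = 0 := by linear_combination e1 + 2 * e2
  have k2 : (w j).im = 0 := (mul_eq_zero.1 k1).resolve_left h3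
  have k3 : 3 * (w j).re = 0 := by linear_combination 2 * e1 + e2
  have k4 : (w j).re = 0 := (mul_eq_zero.1 k3).resolve_left h3
  ext
  · exact k4
  · exact k2

theorem finrank_VK : Module.finrank F (Fin 4 → K F) = 8 := by
  rw [Module.finrank_pi_fintype]
  simp [QuadraticAlgebra.finrank_eq_two]

/-- The isometry as a linear equivalence. -/
theorem exists_isometry [Finite F] (h3 : (3 : F) ≠ 0) :
    ∃ h : (Fin 4 → K F) ≃ₗ[F] (Fin 4 ⊕ Fin 4 → F), ∀ w, plusForm 4 F (h w) = QK w := by
  obtain ⟨κ, hκ⟩ := exists_norm_neg_one h3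
  have hinj : Function.Injective (hyp κ) := by
    rw [injective_iff_map_eq_zero]
    intro w hw
    apply QK_nondeg h3
    intro w'
    have e : polar (plusForm 4 F) (hyp κ w) (hyp κ w') = polar QK w w' := by
      rw [QuadraticMap.polar, QuadraticMap.polar, ← map_add, hyp_form hκ, hyp_form hκ,
        hyp_form hκ]
    rw [← e, hw, polar_zero_left]
  have hfr : Module.finrank F (Fin 4 → K F) = Module.finrank F (Fin 4 ⊕ Fin 4 → F) := by
    rw [finrank_VK]; simp
  exact ⟨LinearEquiv.ofInjectiveOfFinrankEq (hyp κ) hinj hfr, fun w => hyp_form hκ w⟩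

end Cfsg.Agent.H885.Tri
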