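import Cfsg.Agent.H885.Tri.Reg
import Cfsg.Agent.H885.Tri.Hyp

/-!
# The data (helper885)
-/

set_option autoImplicit false

namespace Cfsg.Agent.H885.Tri

open QuadraticMap

variable {F : Type*} [Field F]

/-- The permutation `(0 1)(2 3)`. -/
def pa : Equiv.Perm (Fin 4) where
  toFun := ![1, 0, 3, 2]
  invFun := ![1, 0, 3, 2]
  left_inv := by decide
  right_inv := by decide

/-- The permutation `(1 2)`. -/
def pb : Equiv.Perm (Fin 4) where
  toFun := ![0, 2, 1, 3]
  invFun := ![0, 2, 1, 3]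
  left_inv := by decide
  right_inv := by decide

theorem data_gen [Finite F] (h3 : (3 : F) ≠ 0) {c : F} (hc : c ≠ 0) (hn : 1 + c * c ≠ 0) :
    ∃ (u v : Fin 4 → F) (n l m : F) (π : Equiv.Perm (Fin 4)) (p : Fin 3 → Fin 4 → K F),
      Dt u v n l m c π p := by
  obtain ⟨κ, hκ⟩ := exists_norm_neg_one h3
  obtain ⟨a, b⟩ := κ
  rw [norm_eq] at hκ
  simp only at hκ
  refine ⟨![1, 0, 0, c], ![0, 1, c, 0], 1 + c * c, 0, c, pa,
    fun i => ![⟨c, 0⟩, c • (![⟨a, b⟩, ⟨-b, a - b⟩, ⟨b - a, -a⟩] : Fin 3 → K F) i,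
      - (![⟨a, b⟩, ⟨-b, a - b⟩, ⟨b - a, -a⟩] : Fin 3 → K F) i, ⟨-1, 0⟩], ?_, ?_, ?_, ?_, ?_, ?_⟩
  · refine ⟨hn, ?_, ?_, ?_, hc, hc, ?_, ?_, ?_, ?_, ⟨0, 1, ?_, ?_⟩, ⟨1, 0, ?_, ?_⟩⟩ <;>
      simp [Fin.sum_univ_four]
  · intro j
    fin_cases j <;> simp [pa]
  · intro i
    rw [QK, Fin.sum_univ_four]
    simp only [norm_eq]
    fin_cases i
    · simp
      linear_combination (1 + c * c) * hκ
    · simp
      linear_combination (1 + c * c) * hκ
    · simp
      linear_combination (1 + c * c) * hκ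
  · intro i
    rw [pr, Fin.sum_univ_four]
    simp [tr]
    try ring
  · intro i
    rw [pr, Fin.sum_univ_four]
    simp [tr]
    try ring
  · have key : ∀ i j : Fin 3, i ≠ j → polar QK
        (![⟨c, 0⟩, c • (![⟨a, b⟩, ⟨-b, a - b⟩, ⟨b - a, -a⟩] : Fin 3 → K F) i,
          - (![⟨a, b⟩, ⟨-b, a - b⟩, ⟨b - a, -a⟩] : Fin 3 → K F) i, ⟨-1, 0⟩])
        (![⟨c, 0⟩, c • (![⟨a, b⟩, ⟨-b, a - b⟩, ⟨b - a, -a⟩] : Fin 3 → K F) j,
          - (![⟨a, b⟩, ⟨-b, a - b⟩, ⟨b - a, -a⟩] : Fin 3 → K F) j, ⟨-1, 0⟩]) =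
        3 * (1 + c * c) := by
      intro i j hij
      rw [polar_QK, Fin.sum_univ_four]
      fin_cases i <;> fin_cases j <;> first | exact absurd rfl hij | skip
      all_goals
        simp [tr]
        linear_combination -(1 + c * c) * hκ
    intro i j hij
    rw [key i j hij]
    exact mul_ne_zero h3 hn

theorem data_two (h2 : (2 : F) = 0) :
    ∃ (u v : Fin 4 → F) (n l m : F) (π : Equiv.Perm (Fin 4)) (p : Fin 3 → Fin 4 → K F),
      Dt u v n l m 1 π p := by
  refine ⟨![1, 0, 1, 1], ![1, 1, 0, 1], 1, 1, 1, pb,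
    ![![⟨0, 1⟩, 0, 0, ⟨0, 1⟩], ![⟨0, 1⟩, 0, 0, ⟨1, 1⟩], ![⟨1, 0⟩, ⟨1, 0⟩, 0, 0]],
    ?_, ?_, ?_, ?_, ?_, ?_⟩
  · refine ⟨one_ne_zero, ?_, ?_, ?_, one_ne_zero, one_ne_zero, ?_, ?_, ?_, ?_, ⟨1, 1, ?_, ?_⟩,
      ⟨1, 0, ?_, ?_⟩⟩
    · simp [Fin.sum_univ_four]; linear_combination h2
    · simp [Fin.sum_univ_four]; linear_combination h2
    · simp [Fin.sum_univ_four]; linear_combination h2
    · simp
    · simp
    · simp
    · simp; linear_combination -h2
    · simp; linear_combination h2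
    · simp
    · simp
    · simp
  · intro j
    fin_cases j <;> simp [pb]
  · intro i
    rw [QK, Fin.sum_univ_four]
    simp only [norm_eq]
    fin_cases i
    · simp; linear_combination h2
    · simp; linear_combination h2
    · simp; linear_combination h2
  · intro i
    rw [pr, Fin.sum_univ_four]
    fin_cases i <;> simp [tr]
    all_goals
      first | linear_combination -h2 | linear_combination h2 | linear_combination 2 * h2 | ring
  · intro i
    rw [pr, Fin.sum_univ_four]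
    fin_cases i <;> simp [tr]
    all_goals
      first | linear_combination -h2 | linear_combination h2 | linear_combination 2 * h2 | ring
  · have h1 : (1 : F) ≠ 0 := one_ne_zero
    intro i j hij
    rw [polar_QK, Fin.sum_univ_four]
    fin_cases i <;> fin_cases j <;> first | exact absurd rfl hij | skip
    all_goals
      simp [tr]
    all_goals
      intro h4
      apply h1
      first | linear_combination h4 + h2 | linear_combination h4 - h2

end Cfsg.Agent.H885.Tri
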