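import Cfsg.Agent.H885.Tri.Model

/-!
# The 3-group `R0` of semilinear isometries of `K ^ 4` (helper885)
-/

set_option autoImplicit false

namespace Cfsg.Agent.H885.Tri

variable {F : Type*} [Field F]

/-- Coefficients. -/
def co (d : Fin 4 → C F) (j : Fin 4) : K F := (((d j : C F) : (K F)ˣ) : K F)

theorem norm_co (d : Fin 4 → C F) (j : Fin 4) : QuadraticAlgebra.norm (co d j) = 1 := norm_C _

/-- The map `w ↦ (d j * σ (w (τ j)))_j`. -/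
def mp (d : Fin 4 → C F) (τ : Equiv.Perm (Fin 4)) (σ : F ≃+* F) (w : Fin 4 → K F) :
    Fin 4 → K F := fun j => co d j * hat σ (w (τ j))

theorem mp_apply (d : Fin 4 → C F) (τ : Equiv.Perm (Fin 4)) (σ : F ≃+* F) (w : Fin 4 → K F)
    (j : Fin 4) : mp d τ σ w j = co d j * hat σ (w (τ j)) := rfl

theorem mp_mp (d d' : Fin 4 → C F) (τ τ' : Equiv.Perm (Fin 4)) (σ σ' : F ≃+* F)
    (w : Fin 4 → K F) : mp d τ σ (mp d' τ' σ' w) =
      mp (fun j => d j * hatC σ (d' (τ j))) (τ' * τ) (σ * σ') w := by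
  funext j
  rw [mp_apply, mp_apply, mp_apply, map_mul, ← mul_assoc, ← hat_mul]
  rfl

theorem mp_one (w : Fin 4 → K F) : mp (1 : Fin 4 → C F) 1 1 w = w := by
  funext j
  rw [mp_apply, hat_one]
  show (((1 : C F) : (K F)ˣ) : K F) * w j = w j
  simp

theorem mp_inv (d : Fin 4 → C F) (τ : Equiv.Perm (Fin 4)) (σ : F ≃+* F) (w : Fin 4 → K F) :
    mp d τ σ (mp (fun j => (hatC σ⁻¹ (d (τ⁻¹ j)))⁻¹) τ⁻¹ σ⁻¹ w) = w := by
  rw [mp_mp]
  have h1 : (fun j => d j * hatC σ ((hatC σ⁻¹ (d (τ⁻¹ (τ j))))⁻¹)) = 1 := by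
    funext j
    have h2 : hatC σ ((hatC σ⁻¹ (d (τ⁻¹ (τ j))))⁻¹) = (d j)⁻¹ := by
      have h3 : τ⁻¹ (τ j) = j := Equiv.symm_apply_apply τ j
      rw [h3, eq_inv_iff_mul_eq_one]
      apply Subtype.ext
      apply Units.ext
      show hat σ ((((hatC σ⁻¹ (d j))⁻¹ : C F) : (K F)ˣ) : K F) * (((d j : C F) : (K F)ˣ) : K F) = 1
      have h4 : (((d j : C F) : (K F)ˣ) : K F) = hat σ ((((hatC σ⁻¹ (d j)) : C F) : (K F)ˣ) : K F) := by
        rw [hatC_val, hat_inv]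
      rw [h4, ← map_mul]
      have h5 : ((((hatC σ⁻¹ (d j))⁻¹ : C F) : (K F)ˣ) : K F) *
          ((((hatC σ⁻¹ (d j)) : C F) : (K F)ˣ) : K F) = 1 := by
        show (((((hatC σ⁻¹ (d j)) : C F) : (K F)ˣ)⁻¹ : (K F)ˣ) : K F) *
          ((((hatC σ⁻¹ (d j)) : C F) : (K F)ˣ) : K F) = 1
        exact Units.inv_mul _
      rw [h5, map_one]
    rw [h2, mul_inv_cancel]
    rfl
  rw [h1, inv_mul_cancel, mul_inv_cancel, mp_one]

/-- The group `R0`. -/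
def R0 (Φ : Subgroup (F ≃+* F)) : Subgroup (Equiv.Perm (Fin 4 → K F)) where
  carrier := {M | ∃ (d : Fin 4 → C F) (τ : Equiv.Perm (Fin 4)) (σ : F ≃+* F), τ ∈ T3 ∧ σ ∈ Φ ∧
    ∀ w, M w = mp d τ σ w}
  mul_mem' := by
    rintro M M' ⟨d, τ, σ, h1, h2, h3⟩ ⟨d', τ', σ', h1', h2', h3'⟩
    refine ⟨fun j => d j * hatC σ (d' (τ j)), τ' * τ, σ * σ', T3.mul_mem h1' h1,
      Φ.mul_mem h2 h2', fun w => ?_⟩
    rw [Equiv.Perm.mul_apply, h3', h3, mp_mp]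
  one_mem' := ⟨1, 1, 1, T3.one_mem, Φ.one_mem, fun w => by rw [mp_one]; rfl⟩
  inv_mem' := by
    rintro M ⟨d, τ, σ, h1, h2, h3⟩
    refine ⟨fun j => (hatC σ⁻¹ (d (τ⁻¹ j)))⁻¹, τ⁻¹, σ⁻¹, T3.inv_mem h1, Φ.inv_mem h2,
      fun w => ?_⟩
    rw [Equiv.Perm.inv_eq_iff_eq, h3, mp_inv]

theorem mem_R0 {Φ : Subgroup (F ≃+* F)} {M : Equiv.Perm (Fin 4 → K F)} : M ∈ R0 Φ ↔
    ∃ (d : Fin 4 → C F) (τ : Equiv.Perm (Fin 4)) (σ : F ≃+* F), τ ∈ T3 ∧ σ ∈ Φ ∧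
      ∀ w, M w = mp d τ σ w := Iff.rfl

theorem hat_eq_zero {σ : F ≃+* F} {z : K F} (h : hat σ z = 0) : z = 0 :=
  (hat σ).map_eq_zero_iff.1 h

/-- The parametrisation is faithful. -/
theorem mp_inj {d d' : Fin 4 → C F} {τ τ' : Equiv.Perm (Fin 4)} {σ σ' : F ≃+* F}
    (h : ∀ w, mp d τ σ w = mp d' τ' σ' w) : d = d' ∧ τ = τ' ∧ σ = σ' := by
  have key : ∀ j, co d j ≠ 0 := by
    intro j h0
    have h1 := norm_co d j
    rw [h0, QuadraticAlgebra.norm_zero] at h1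
    exact zero_ne_one h1
  have hτ : τ = τ' := by
    ext1 j
    by_contra hne
    have h1 := congrFun (h (Pi.single (τ j) 1)) j
    rw [mp_apply, mp_apply, Pi.single_eq_same, Pi.single_eq_of_ne (Ne.symm hne), map_one, map_zero,
      mul_one, mul_zero] at h1
    exact key j h1
  subst hτ
  have hd : ∀ j, co d j = co d' j := by
    intro j
    have h1 := congrFun (h (Pi.single (τ j) 1)) j
    rwa [mp_apply, mp_apply, Pi.single_eq_same, map_one, map_one, mul_one, mul_one] at h1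
  refine ⟨?_, rfl, ?_⟩
  · funext j
    apply Subtype.ext
    apply Units.ext
    exact hd j
  · ext a
    have h1 := congrFun (h (Pi.single (τ 0) (a • 1))) 0
    rw [mp_apply, mp_apply, Pi.single_eq_same, ← hd 0, hat_smul, hat_smul, map_one, map_one] at h1
    have h2 : co d 0 * (σ a • (1 : K F) - σ' a • (1 : K F)) = 0 := by
      rw [mul_sub, h1, sub_self]
    have h3 := eq_zero_of_mul (by rw [norm_co]; exact one_ne_zero) h2
    rw [← sub_smul] at h3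
    exact sub_eq_zero.1 ((smul_eq_zero.1 h3).resolve_right one_ne_zero)

/-- The permutation of the vectors given by `mp`. -/
def mpE (d : Fin 4 → C F) (τ : Equiv.Perm (Fin 4)) (σ : F ≃+* F) :
    Equiv.Perm (Fin 4 → K F) where
  toFun := mp d τ σ
  invFun := mp (fun j => (hatC σ⁻¹ (d (τ⁻¹ j)))⁻¹) τ⁻¹ σ⁻¹
  left_inv w := by
    rw [mp_mp]
    have h1 : (fun j => (hatC σ⁻¹ (d (τ⁻¹ j)))⁻¹ * hatC σ⁻¹ (d (τ⁻¹ j))) = 1 := by
      funext j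
      rw [inv_mul_cancel]; rfl
    rw [h1, mul_inv_cancel, inv_mul_cancel, mp_one]
  right_inv w := mp_inv d τ σ w

theorem mpE_mem {Φ : Subgroup (F ≃+* F)} (d : Fin 4 → C F) {τ : Equiv.Perm (Fin 4)}
    {σ : F ≃+* F} (hτ : τ ∈ T3) (hσ : σ ∈ Φ) : mpE d τ σ ∈ R0 Φ :=
  ⟨d, τ, σ, hτ, hσ, fun _ => rfl⟩

/-- The parametrisation. -/
def par (Φ : Subgroup (F ≃+* F)) (x : (Fin 4 → C F) × T3 × Φ) : R0 Φ :=
  ⟨mpE x.1 x.2.1 x.2.2, mpE_mem _ x.2.1.2 x.2.2.2⟩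

theorem par_bijective (Φ : Subgroup (F ≃+* F)) : Function.Bijective (par Φ) := by
  constructor
  · rintro ⟨d, ⟨τ, hτ⟩, ⟨σ, hσ⟩⟩ ⟨d', ⟨τ', hτ'⟩, ⟨σ', hσ'⟩⟩ h
    have h1 : mpE d τ σ = mpE d' τ' σ' := congrArg Subtype.val h
    obtain ⟨rfl, rfl, rfl⟩ := mp_inj (fun w => congrArg (fun M : Equiv.Perm (Fin 4 → K F) => M w) h1)
    rfl
  · rintro ⟨M, d, τ, σ, hτ, hσ, h⟩
    refine ⟨⟨d, ⟨τ, hτ⟩, ⟨σ, hσ⟩⟩, ?_⟩
    apply Subtype.ext
    ext1 w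
    exact (h w).symm

theorem card_R0 (Φ : Subgroup (F ≃+* F)) : Nat.card (R0 Φ) =
    Nat.card (C F) ^ 4 * 3 * Nat.card Φ := by
  rw [← Nat.card_congr (Equiv.ofBijective _ (par_bijective Φ)), Nat.card_prod, Nat.card_prod,
    card_T3, Nat.card_fun, mul_assoc]
  simp

theorem isPGroup_C : IsPGroup 3 (C F) := by
  rintro ⟨z, h1, k, hk⟩
  exact ⟨k, Subtype.ext hk⟩

instance finite_K [Finite F] : Finite (K F) :=
  Finite.of_injective (fun z : K F => (z.re, z.im)) (fun z w h => by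
    rw [Prod.mk.injEq] at h
    exact QuadraticAlgebra.ext h.1 h.2)

theorem isPGroup_R0 [Finite F] {Φ : Subgroup (F ≃+* F)} (hΦ : IsPGroup 3 Φ) :
    IsPGroup 3 (R0 Φ) := by
  have h3 : Fact (Nat.Prime 3) := ⟨Nat.prime_three⟩
  have hfin : Finite (F ≃+* F) := Finite.of_injective (fun σ : F ≃+* F => (σ : F → F))
    DFunLike.coe_injective
  obtain ⟨a, ha⟩ := (isPGroup_C (F := F)).exists_card_eq
  obtain ⟨b, hb⟩ := hΦ.exists_card_eq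
  apply IsPGroup.of_card (n := a * 4 + 1 + b)
  rw [card_R0, ha, hb, pow_add, pow_add, pow_mul, pow_one]

end Cfsg.Agent.H885.Tri
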