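import Cfsg.Agent.H885.Tri.Three
import Cfsg.Agent.H885.Tri.Comm
import Cfsg.Agent.ClassicalGeometry.OrthSemi

/-!
# Transport of the model to an isometric quadratic space (helper885)
-/

set_option autoImplicit false

namespace Cfsg.Agent.H885.Tri

open QuadraticMap Cfsg.Agent.LieClassical.OrthCore Cfsg.Agent.LieClassical.OrthTrans
  Cfsg.Agent.LieClassical.OrthSimple Cfsg.Agent.LieClassical.OrthFinite
  Cfsg.Agent.ClassicalGeometry.OrthAut1
  Cfsg.Agent.ClassicalGeometry.OrthAut2 Cfsg.Agent.ClassicalGeometry.OrthAut2b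
  Cfsg.Agent.ClassicalGeometry.OrthAut3
  Cfsg.Agent.ClassicalGeometry.OrthSemi
  Cfsg.Agent.AutOrth.Main

variable {F : Type*} [Field F]

/-- The form: sum of the norms. -/
def QK (w : Fin 4 → K F) : F := ∑ j, QuadraticAlgebra.norm (w j)

theorem QK_add (w w' : Fin 4 → K F) : QK (w + w') = QK w + QK w' +
    ∑ j, tr (w j * star (w' j)) := by
  simp only [QK, Pi.add_apply, norm_add, Finset.sum_add_distrib]

theorem polar_QK (w w' : Fin 4 → K F) : polar QK w w' = ∑ j, tr (w j * star (w' j)) := by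
  rw [QuadraticMap.polar, QK_add]; ring

theorem polar_emb (w : Fin 4 → K F) (u : Fin 4 → F) : polar QK w (emb u) = pr w u := by
  rw [polar_QK, pr]
  refine Finset.sum_congr rfl fun j _ => ?_
  simp [tr, emb]
  ring

theorem QK_emb (u : Fin 4 → F) : QK (emb u) = ∑ j, u j * u j := by
  rw [QK]
  refine Finset.sum_congr rfl fun j _ => ?_
  rw [norm_eq]
  simp [emb]

theorem pr_emb (u v : Fin 4 → F) : pr (emb u) v = 2 * ∑ j, u j * v j := by
  rw [pr, Finset.mul_sum]
  refine Finset.sum_congr rfl fun j _ => ?_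
  simp [tr, emb]
  ring

theorem QK_mp (d : Fin 4 → C F) (τ : Equiv.Perm (Fin 4)) (σ : F ≃+* F) (w : Fin 4 → K F) :
    QK (mp d τ σ w) = σ (QK w) := by
  rw [QK, QK, map_sum, ← Equiv.sum_comp τ (fun j => σ (QuadraticAlgebra.norm (w j)))]
  refine Finset.sum_congr rfl fun j _ => ?_
  rw [mp_apply, map_mul, norm_co, one_mul, norm_hat]

section transport

variable {V : Type*} [AddCommGroup V] [Module F V] {Q : QuadraticForm F V}
  (h : (Fin 4 → K F) ≃ₗ[F] V) (hh : ∀ w, Q (h w) = QK w)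

include hh

omit hh in
/-- An element of `R0`, transported to `V`. -/
def tp : Equiv.Perm (Fin 4 → K F) →* Equiv.Perm V where
  toFun M := h.toEquiv.symm.trans (M.trans h.toEquiv)
  map_one' := by
    ext v
    show h (h.symm v) = v
    exact h.apply_symm_apply v
  map_mul' M N := by
    ext v
    show h (M (N (h.symm v))) = h (M (h.symm (h (N (h.symm v)))))
    rw [h.symm_apply_apply]

omit hh in
theorem tp_apply (M : Equiv.Perm (Fin 4 → K F)) (v : V) : tp h M v = h (M (h.symm v)) := rfl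

theorem tp_isSS {Φ : Subgroup (F ≃+* F)} {M : Equiv.Perm (Fin 4 → K F)} (hM : M ∈ R0 Φ) :
    ∃ σ : F ≃+* F, IsSS Q σ 1 (tp h M) := by
  obtain ⟨d, τ, σ, -, -, e⟩ := hM
  refine ⟨σ, one_ne_zero, fun u v => ?_, fun a v => ?_, fun v => ?_⟩
  · rw [tp_apply, tp_apply, tp_apply, e, e, e, map_add, mp_add, map_add]
  · rw [tp_apply, tp_apply, e, e, map_smul, mp_smul, map_smul]
  · rw [tp_apply, hh, e, QK_mp, ← hh, h.apply_symm_apply, one_mul]

/-- `R0` acts on `V` by semisimilitudes. -/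
def tg (Φ : Subgroup (F ≃+* F)) : R0 Φ →* Gam Q where
  toFun M := ⟨tp h M.1, by
    obtain ⟨σ, hσ⟩ := tp_isSS h hh M.2
    exact ⟨σ, 1, hσ⟩⟩
  map_one' := Subtype.ext (map_one (tp h))
  map_mul' M N := Subtype.ext (map_mul (tp h) M.1 N.1)

theorem tg_apply {Φ : Subgroup (F ≃+* F)} (M : R0 Φ) (w : Fin 4 → K F) :
    (tg h hh Φ M).1 (h w) = h (M.1 w) := by
  show h (M.1 (h.symm (h w))) = _
  rw [h.symm_apply_apply]

theorem polar_h (w w' : Fin 4 → K F) : polar Q (h w) (h w') = polar QK w w' := by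
  rw [QuadraticMap.polar, QuadraticMap.polar, ← map_add, hh, hh, hh]

end transport

/-- Semisimilitudes permute the point stabilisers. -/
theorem pt_Psi {V : Type*} [AddCommGroup V] [Module F V] {Q : QuadraticForm F V} (hG : Good Q)
    (M : Gam Q) : Pt hG (Psi Q M) := by
  obtain ⟨σ, c, hM⟩ := M.2
  have hM' : Cfsg.Agent.AutOrth.SemiSim.IsSemi Q (AddEquiv.mk' M.1 hM.add) σ c :=
    ⟨hM.ne, hM.smul, hM.form⟩
  refine pt_of_semi hG hM' fun g => ?_
  have h1 : Psi Q M (g : P Q) = ((conjE Q M g : ↥(E Q)) : P Q) := Psi_mk M g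
  rw [h1]
  rfl

/-- Elements of `E Q` as semisimilitudes. -/
def eG {V : Type*} [AddCommGroup V] [Module F V] {Q : QuadraticForm F V} (x : ↥(E Q)) : Gam Q :=
  ⟨(x : V ≃ₗ[F] V).toEquiv, RingEquiv.refl F, 1, one_ne_zero, fun u v => map_add (x : V ≃ₗ[F] V) u v,
    fun a v => map_smul (x : V ≃ₗ[F] V) a v, fun v => by
      rw [one_mul]; exact Q_apply x v⟩

theorem Psi_eG {V : Type*} [AddCommGroup V] [Module F V] {Q : QuadraticForm F V} (x : ↥(E Q)) :
    Psi Q (eG x) = MulAut.conj (x : P Q) := by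
  ext p
  obtain ⟨g, rfl⟩ := QuotientGroup.mk_surjective p
  have h1 : Psi Q (eG x) (g : P Q) = ((conjE Q (eG x) g : ↥(E Q)) : P Q) :=
    Psi_mk (eG x) g
  rw [h1, MulAut.conj_apply, ← QuotientGroup.mk_inv, ← QuotientGroup.mk_mul,
    ← QuotientGroup.mk_mul]
  rfl

end Cfsg.Agent.H885.Tri
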