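import Cfsg.Agent.H885.Tri.Data
import Cfsg.Agent.H885.Tri.CardC
import Cfsg.Agent.S0817
import Cfsg.Agent.S0293
import Cfsg.Agent.Lib.FieldAutCard

/-!
# `Meet 3 (PΩ₈⁺(q))`, `3 ∤ q` (helper885)
-/

set_option autoImplicit false

namespace Cfsg.Agent.H885.Tri

open QuadraticMap Cfsg.Agent.LieClassical.OrthCore Cfsg.Agent.LieClassical.OrthTrans
  Cfsg.Agent.LieClassical.OrthSimple Cfsg.Agent.LieClassical.OrthFinite
  Cfsg.Agent.LieClassical.QuadForms
  Cfsg.Agent.ClassicalGeometry.OrthAut1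
  Cfsg.Agent.ClassicalGeometry.OrthAut2 Cfsg.Agent.ClassicalGeometry.OrthAut2b
  Cfsg.Agent.ClassicalGeometry.OrthAut3
  Cfsg.Agent.ClassicalGeometry.OrthSemi
  Cfsg.Agent.AutOrth.Main Cfsg.Agent.H903.SylMeet

theorem not_comm_P {F V : Type*} [Field F] [AddCommGroup V] [Module F V] {Q : QuadraticForm F V}
    (hG : Good Q) : ¬ IsMulCommutative (P Q) := by
  intro h
  have hs := good_isSimpleGroup hG
  have h1 : commutator ↥(E Q) ≤ Subgroup.center ↥(E Q) := by
    rw [commutator_def, Subgroup.commutator_le]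
    intro a _ b _
    rw [← QuotientGroup.eq_one_iff, commutatorElement_def]
    have h2 : ((a : ↥(E Q)) : P Q) * ((b : ↥(E Q)) : P Q) =
        ((b : ↥(E Q)) : P Q) * ((a : ↥(E Q)) : P Q) := h.is_comm.comm _ _
    show ((a : ↥(E Q)) : P Q) * ((b : ↥(E Q)) : P Q) * ((a : ↥(E Q)) : P Q)⁻¹ *
      ((b : ↥(E Q)) : P Q)⁻¹ = 1
    rw [h2]
    group
  rw [commutator_E hG] at h1
  obtain ⟨p, hp⟩ := exists_ne (1 : P Q)
  obtain ⟨g, rfl⟩ := QuotientGroup.mk_surjective p
  exact hp ((QuotientGroup.eq_one_iff g).2 (h1 trivial))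

/-! ### Arithmetic -/

theorem v3_zero {n : ℕ} (h : ¬ 3 ∣ n) : n.factorization 3 = 0 :=
  Nat.factorization_eq_zero_of_not_dvd h

/-- The 3-part of the order of the simple group. -/
theorem v3_arith {q N : ℕ} (hq : 2 ≤ q) (h3 : ¬ 3 ∣ q)
    (h : Nat.gcd 4 (q ^ 4 - 1) * N = q ^ 12 * ((q ^ 4 - 1) * ((q ^ 2 - 1) * ((q ^ 4 - 1) *
      (q ^ 6 - 1))))) :
    N.factorization 3 = 4 * (q ^ 2 - 1).factorization 3 + 1 := by
  have hp3 := Nat.prime_three
  have hF : Fact (Nat.Prime 3) := ⟨hp3⟩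
  have hq2 : 4 ≤ q ^ 2 := by nlinarith
  have h4 : q ^ 4 - 1 = (q ^ 2 - 1) * (q ^ 2 + 1) := by
    obtain ⟨k, hk⟩ : ∃ k, q ^ 2 = k + 1 := ⟨q ^ 2 - 1, by omega⟩
    have : q ^ 4 = (q ^ 2) ^ 2 := by ring
    rw [this, hk]
    have : (k + 1) ^ 2 = k * (k + 2) + 1 := by ring
    rw [this, Nat.add_sub_cancel, Nat.add_sub_cancel]
  have hmod : q ^ 2 % 3 = 1 := by
    rw [Nat.pow_mod]
    have : q % 3 = 1 ∨ q % 3 = 2 := by omega
    rcases this with e | e <;> rw [e]
  have hn1 : ¬ 3 ∣ q ^ 2 + 1 := by omega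
  have hd : 3 ∣ q ^ 2 - 1 := by omega
  have v4 : (q ^ 4 - 1).factorization 3 = (q ^ 2 - 1).factorization 3 := by
    rw [h4, Nat.factorization_mul (by omega) (by omega), Finsupp.add_apply, v3_zero hn1, add_zero]
  have v6 : (q ^ 6 - 1).factorization 3 = (q ^ 2 - 1).factorization 3 + 1 := by
    have e : q ^ 6 - 1 = (q ^ 2) ^ 3 - 1 ^ 3 := by
      rw [one_pow, ← pow_mul]
    rw [e, Nat.factorization_def _ hp3, Nat.factorization_def _ hp3,
      padicValNat.pow_sub_pow (by decide) (by omega) hd (by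
        intro hc
        exact h3 (hp3.dvd_of_dvd_pow hc)) (by norm_num)]
    simp
  have hgcd : (Nat.gcd 4 (q ^ 4 - 1)).factorization 3 = 0 := by
    apply v3_zero
    intro hc
    have := hc.trans (Nat.gcd_dvd_left _ _)
    omega
  have hg0 : Nat.gcd 4 (q ^ 4 - 1) ≠ 0 := by
    intro h0
    have := Nat.eq_zero_of_gcd_eq_zero_left h0
    omega
  have hq4 : q ^ 4 - 1 ≠ 0 := by
    rw [h4]
    exact Nat.mul_ne_zero (by omega) (by omega)
  have hq6 : q ^ 6 - 1 ≠ 0 := by
    have : 1 < q ^ 6 := Nat.one_lt_pow (by norm_num) (by omega)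
    omega
  have hq12 : q ^ 12 ≠ 0 := by positivity
  have hN0 : N ≠ 0 := by
    rintro rfl
    rw [mul_zero] at h
    exact (Nat.mul_ne_zero hq12 (Nat.mul_ne_zero hq4 (Nat.mul_ne_zero (by omega)
      (Nat.mul_ne_zero hq4 hq6)))) h.symm
  have h5 : (Nat.gcd 4 (q ^ 4 - 1) * N).factorization 3 = _ :=
    congrArg (fun n => n.factorization 3) h
  rw [Nat.factorization_mul hg0 hN0, Nat.factorization_mul hq12 (Nat.mul_ne_zero hq4
    (Nat.mul_ne_zero (by omega) (Nat.mul_ne_zero hq4 hq6))), Nat.factorization_mul hq4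
    (Nat.mul_ne_zero (by omega) (Nat.mul_ne_zero hq4 hq6)), Nat.factorization_mul (by omega)
    (Nat.mul_ne_zero hq4 hq6), Nat.factorization_mul hq4 hq6, Nat.factorization_pow] at h5
  simp only [Finsupp.add_apply, Finsupp.smul_apply, hgcd, v3_zero h3, v4, v6, smul_zero,
    zero_add] at h5
  omega

theorem meet3_D4_cross {F : Type} [Field F] [Fintype F] (h : ¬ 3 ∣ Fintype.card F) :
    Meet 3 (Cfsg.POmega F (Cfsg.quadFormPlus 4 F)) := by
  classical
  have hp3 := Nat.prime_three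
  have hF3 : Fact (Nat.Prime 3) := ⟨hp3⟩
  obtain ⟨p, hpc⟩ := CharP.exists F
  obtain ⟨f, hp, hf⟩ := FiniteField.card F p
  have hpF : Fact p.Prime := ⟨hp⟩
  have hf1 : 1 ≤ (f : ℕ) := f.pos
  have h3 : (3 : F) ≠ 0 := by
    intro h0
    apply h
    have h1 : p ∣ 3 := by
      rw [← CharP.cast_eq_zero_iff F p]
      exact_mod_cast h0
    have h2 : p = 3 := (Nat.prime_dvd_prime_iff_eq hp hp3).1 h1
    rw [hf, h2]
    exact dvd_pow_self 3 (by omega)
  have hG : Good (plusForm 4 F) := good_plus (by norm_num)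
  have h8 : Module.finrank F (Fin 4 ⊕ Fin 4 → F) = 8 := by simp
  have hfinP : Finite (P (plusForm 4 F)) := finite_P
  -- the group `Γ`
  obtain ⟨Γ, hΓ, hind⟩ := Cfsg.Agent.ClassicalGeometry.TrialityFinal.exists_index_three hG (by
    intro α x hx hx0
    rcases dichotomy hG (by omega) α hx hx0 with h1 | ⟨-, h1⟩
    · exact Or.inl h1
    · exact Or.inr h1)
  have hcoe : (⇑(plusForm 4 F) : (Fin 4 ⊕ Fin 4 → F) → F) = Cfsg.quadFormPlus 4 F := coe_plusForm 4
  have hiso := pe hG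
  rw [hcoe] at hiso
  -- orders
  have hordA : Nat.card (MulAut (P (plusForm 4 F))) = Nat.card (MulAut (Cfsg.POmega F
      (Cfsg.quadFormPlus 4 F))) := (Nat.card_congr (MulAut.congr hiso).toEquiv).symm
  have hA := Cfsg.Agent.S0817.result (F := F) p f hf1 hf 4 le_rfl
  have hT := Cfsg.Agent.S0293.result (F := F) rfl 4 (by norm_num)
  set N := Nat.card (Cfsg.POmega F (Cfsg.quadFormPlus 4 F)) with hN
  set q := Fintype.card F with hq
  have hq2 : 2 ≤ q := Fintype.one_lt_card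
  have hv : N.factorization 3 = 4 * (q ^ 2 - 1).factorization 3 + 1 := by
    apply v3_arith hq2 h
    simpa [Finset.prod_range_succ, mul_assoc] using hT
  obtain ⟨k, hk, hAk⟩ : ∃ k, ¬ 3 ∣ k ∧ Nat.card (MulAut (P (plusForm 4 F))) =
      3 * (k * (f * N)) := by
    rw [hordA, hA]
    refine ⟨(if p = 2 then 2 else (if Even (4 * (p ^ (f : ℕ) - 1) / 2) then 8 else 4)), ?_, ?_⟩
    · split_ifs <;> norm_num
    · rw [if_pos rfl]; ring
  have hΓc : Nat.card Γ = k * (f * N) := by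
    have h1 := Γ.card_mul_index
    rw [hind, hAk] at h1
    omega
  have hN0 : N ≠ 0 := by
    intro h0
    rw [h0] at hv
    simp at hv
  have hk0 : k ≠ 0 := by
    rintro rfl
    exact hk (dvd_zero 3)
  have hf0 : (f : ℕ) ≠ 0 := by omega
  have hvΓ : (Nat.card Γ).factorization 3 = (f : ℕ).factorization 3 +
      (4 * (q ^ 2 - 1).factorization 3 + 1) := by
    rw [hΓc, Nat.factorization_mul hk0 (Nat.mul_ne_zero hf0 hN0), Nat.factorization_mul hf0 hN0,
      Finsupp.add_apply, Finsupp.add_apply, v3_zero hk, zero_add, hv]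
  -- the field automorphisms
  have hfinA : Finite (F ≃+* F) := Finite.of_injective (fun σ : F ≃+* F => (σ : F → F))
    DFunLike.coe_injective
  have hcA : Nat.card (F ≃+* F) = f := Cfsg.Agent.Lib.FieldAutCard.card_ringAut hf1 hf
  obtain ⟨Φ⟩ : Nonempty (Sylow 3 (F ≃+* F)) := inferInstance
  have hΦc : Nat.card (Φ : Subgroup (F ≃+* F)) = 3 ^ (f : ℕ).factorization 3 := by
    rw [← hcA]; exact Sylow.card_eq_multiplicity Φ
  have hcard : 3 ^ (Nat.card Γ).factorization 3 ≤ Nat.card (R0 (Φ : Subgroup (F ≃+* F))) := by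
    rw [card_R0, hΦc, hvΓ]
    have h1 := card_C_ge (F := F) h3
    rw [Nat.card_eq_fintype_card, ← hq] at h1
    calc 3 ^ ((f : ℕ).factorization 3 + (4 * (q ^ 2 - 1).factorization 3 + 1)) =
        (3 ^ (q ^ 2 - 1).factorization 3) ^ 4 * 3 * 3 ^ (f : ℕ).factorization 3 := by
          rw [pow_add, pow_add, pow_one, ← pow_mul]
          ring
      _ ≤ _ := by gcongr
  obtain ⟨hh, hhQ⟩ := exists_isometry h3
  have hs := good_isSimpleGroup hG
  have hinj := conj_injective (not_comm_P hG)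
  -- the constant `c`
  have hmain : ∀ c : F, (∀ σ : F ≃+* F, σ c = c → σ = 1) →
      (∃ (u v : Fin 4 → F) (n l m : F) (π : Equiv.Perm (Fin 4)) (p : Fin 3 → Fin 4 → K F),
        Dt u v n l m c π p) → Meet 3 (Cfsg.POmega F (Cfsg.quadFormPlus 4 F)) := by
    rintro c hc ⟨u, v, n, l, m, π, p, D⟩
    exact (meet_of_data hh hhQ hG h8 h3 D Φ.isPGroup' (fun σ _ => hc σ) hinj Γ hΓ hcard).congr
      hiso.symm
  by_cases hf1' : (f : ℕ) = 1
  · -- prime fields
    have htriv : ∀ σ : F ≃+* F, σ = 1 := by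
      rw [hf1', Nat.card_eq_one_iff_unique] at hcA
      obtain ⟨h1, -⟩ := hcA
      intro σ
      exact Subsingleton.elim _ _
    refine hmain 1 (fun σ _ => htriv σ) ?_
    by_cases h2 : (2 : F) = 0
    · exact data_two h2
    · apply data_gen h3 one_ne_zero
      intro h4
      apply h2
      linear_combination h4
  · obtain ⟨g, hg⟩ := IsCyclic.exists_generator (α := Fˣ)
    refine hmain (g : F) ?_ (data_gen h3 g.ne_zero ?_)
    · intro σ hσ
      ext a
      by_cases ha : a = 0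
      · rw [ha, map_zero]; rfl
      · obtain ⟨i, hi⟩ := Subgroup.mem_zpowers_iff.1 (hg (Units.mk0 a ha))
        have h1 : ((g ^ i : Fˣ) : F) = a := by rw [hi]; rfl
        rw [← h1, Units.val_zpow_eq_zpow_val, map_zpow₀, hσ]
        rfl
    · intro hn
      have h4 : g ^ 4 = 1 := by
        apply Units.ext
        rw [Units.val_pow_eq_pow_val, Units.val_one]
        linear_combination ((g : F) * g - 1) * hn
      have h5 : orderOf g = q - 1 := by
        rw [orderOf_eq_card_of_forall_mem_zpowers hg, Nat.card_units, Nat.card_eq_fintype_card]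
      have h6 := orderOf_dvd_of_pow_eq_one h4
      rw [h5] at h6
      have h7 := Nat.le_of_dvd (by norm_num) h6
      have h8 : q ≤ 5 := by omega
      -- `q = p ^ f`, `f ≥ 2`, `q ≤ 5`: `q = 4`
      have h9 : p ^ 2 ≤ q := by
        rw [hf]; exact Nat.pow_le_pow_right hp.pos (by omega)
      have hp2 := hp.two_le
      have hq4 : q ≠ 4 := by
        intro h10
        rw [h10] at h6
        norm_num at h6
      have hp4 : 4 ≤ p ^ 2 := by nlinarith
      have hq5 : q = 5 := by omega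
      have hpp : p ∣ 5 := by
        rw [← hq5, hf]; exact dvd_pow_self p hf0
      have : p = 5 := (Nat.prime_dvd_prime_iff_eq hp (by norm_num)).1 hpp
      subst this
      omega

end Cfsg.Agent.H885.Tri
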