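import Mathlib

/-!
# A model of the hyperbolic space of dimension eight over `F[ω]`, and a 3-group of semilinear
isometries (helper885)

`K F = F[ω]`, `ω ^ 2 + ω + 1 = 0`, with its norm `a ^ 2 - a b + b ^ 2`; `V = K ^ 4` with the sum of the norms.
`R0 Φ` is the group of the maps `w ↦ (d j * σ (w (τ j)))_j`, `d j` of norm one and `3`-power order,
`τ ∈ ⟨(0 1 2)⟩`, `σ ∈ Φ`.
-/

set_option autoImplicit false

namespace Cfsg.Agent.H885.Tri

/-- `F[ω]`, `ω ^ 2 = - 1 - ω`. -/
abbrev K (F : Type*) [Field F] : Type _ := QuadraticAlgebra F (-1) (-1)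

variable {F : Type*} [Field F]

theorem norm_eq (z : K F) : QuadraticAlgebra.norm z = z.re * z.re - z.re * z.im + z.im * z.im := by
  rw [QuadraticAlgebra.norm_def]; ring

/-- The trace. -/
def tr (z : K F) : F := 2 * z.re - z.im

theorem norm_add (z w : K F) : QuadraticAlgebra.norm (z + w) = QuadraticAlgebra.norm z +
    QuadraticAlgebra.norm w + tr (z * star w) := by
  rw [norm_eq, norm_eq, norm_eq, tr]
  simp only [QuadraticAlgebra.re_add, QuadraticAlgebra.im_add, QuadraticAlgebra.re_mul,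
    QuadraticAlgebra.im_mul, QuadraticAlgebra.re_star, QuadraticAlgebra.im_star]
  ring

/-- The extension of a field automorphism. -/
def hat (σ : F ≃+* F) : K F ≃+* K F where
  toFun z := ⟨σ z.re, σ z.im⟩
  invFun z := ⟨σ.symm z.re, σ.symm z.im⟩
  left_inv z := by ext <;> simp
  right_inv z := by ext <;> simp
  map_mul' z w := by ext <;> simp
  map_add' z w := by ext <;> simp

@[simp] theorem hat_re (σ : F ≃+* F) (z : K F) : (hat σ z).re = σ z.re := rfl
@[simp] theorem hat_im (σ : F ≃+* F) (z : K F) : (hat σ z).im = σ z.im := rfl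

theorem hat_mul (σ τ : F ≃+* F) (z : K F) : hat (σ * τ) z = hat σ (hat τ z) := rfl

theorem hat_one (z : K F) : hat (1 : F ≃+* F) z = z := rfl

theorem hat_inv (σ : F ≃+* F) (z : K F) : hat σ (hat σ⁻¹ z) = z := by
  rw [← hat_mul, mul_inv_cancel, hat_one]

theorem hat_smul (σ : F ≃+* F) (a : F) (z : K F) : hat σ (a • z) = σ a • hat σ z := by
  ext <;> simp

theorem norm_hat (σ : F ≃+* F) (z : K F) : QuadraticAlgebra.norm (hat σ z) =
    σ (QuadraticAlgebra.norm z) := by
  rw [norm_eq, norm_eq]; simp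

/-- `θ = 1 + 2 ω`: trace zero, norm three. -/
def th (F : Type*) [Field F] : K F := ⟨1, 2⟩

theorem tr_th : tr (th F) = 0 := by simp [tr, th]

theorem hat_th (σ : F ≃+* F) : hat σ (th F) = th F := by
  ext
  · simp [th]
  · exact map_ofNat σ 2

theorem norm_th : QuadraticAlgebra.norm (th F) = 3 := by
  rw [norm_eq]; simp [th]; ring

/-- Multiplication by an element of nonzero norm is injective. -/
theorem eq_zero_of_mul {z w : K F} (hz : QuadraticAlgebra.norm z ≠ 0) (h : z * w = 0) :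
    w = 0 := by
  have h1 : QuadraticAlgebra.norm z • w = 0 := by
    have h2 := QuadraticAlgebra.algebraMap_norm_eq_mul_star z
    have h3 : algebraMap F (K F) (QuadraticAlgebra.norm z) * w = 0 := by
      rw [h2, mul_comm z, mul_assoc, h, mul_zero]
    rwa [← Algebra.smul_def] at h3
  exact (smul_eq_zero.1 h1).resolve_left hz

/-- Elements of norm one and `3`-power order. -/
def C (F : Type*) [Field F] : Subgroup (K F)ˣ where
  carrier := {z | QuadraticAlgebra.norm (z : K F) = 1 ∧ ∃ k : ℕ, z ^ 3 ^ k = 1}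
  mul_mem' := by
    rintro z w ⟨h1, k, hk⟩ ⟨h2, l, hl⟩
    refine ⟨by rw [Units.val_mul, map_mul, h1, h2, one_mul], k + l, ?_⟩
    rw [mul_pow, pow_add, pow_mul, hk, one_pow, mul_comm (3 ^ k), pow_mul, hl, one_pow, one_mul]
  one_mem' := ⟨by simp, 0, by simp⟩
  inv_mem' := by
    rintro z ⟨h1, k, hk⟩
    refine ⟨?_, k, by rw [inv_pow, hk, inv_one]⟩
    have h2 : QuadraticAlgebra.norm ((z : K F) * ((z⁻¹ : (K F)ˣ) : K F)) = 1 := by
      rw [Units.mul_inv, map_one]
    rwa [map_mul, h1, one_mul] at h2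

theorem mem_C {z : (K F)ˣ} : z ∈ C F ↔
    QuadraticAlgebra.norm (z : K F) = 1 ∧ ∃ k : ℕ, z ^ 3 ^ k = 1 := Iff.rfl

/-- The action of the field automorphisms on `C`. -/
def hatC (σ : F ≃+* F) (z : C F) : C F :=
  ⟨Units.map (hat σ : K F →* K F) z.1, by
    obtain ⟨z, h1, k, hk⟩ := z
    refine ⟨?_, k, ?_⟩
    · show QuadraticAlgebra.norm (hat σ (z : K F)) = 1
      rw [norm_hat, h1, map_one]
    · rw [← map_pow, hk, map_one]⟩

theorem hatC_val (σ : F ≃+* F) (z : C F) : (((hatC σ z : C F) : (K F)ˣ) : K F) =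
    hat σ (((z : C F) : (K F)ˣ) : K F) := rfl

theorem norm_C (z : C F) : QuadraticAlgebra.norm (((z : C F) : (K F)ˣ) : K F) = 1 := z.2.1

/-- A real element of `C` is one. -/
theorem eq_one_of_real (z : C F) (h : (((z : C F) : (K F)ˣ) : K F).im = 0) : z = 1 := by
  obtain ⟨z, h1, k, hk⟩ := z
  have h2 : z ^ 2 = 1 := by
    apply Units.ext
    rw [norm_eq, h] at h1
    simp only [mul_zero, sub_zero, add_zero] at h1
    have h3 : (z : K F) = ⟨(z : K F).re, 0⟩ := by
      ext
      · rfl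
      · exact h
    rw [Units.val_pow_eq_pow_val, sq, h3]
    ext
    · simp [h1, QuadraticAlgebra.re_one]
    · simp [QuadraticAlgebra.im_one]
  apply Subtype.ext
  show z = 1
  have h4 := pow_gcd_eq_one.2 ⟨h2, hk⟩
  have h5 : Nat.gcd 2 (3 ^ k) = 1 := Nat.Coprime.pow_right _ (by norm_num)
  rwa [h5, pow_one] at h4

/-! ### The permutations -/

/-- The 3-cycle. -/
def rho : Equiv.Perm (Fin 4) where
  toFun := ![1, 2, 0, 3]
  invFun := ![2, 0, 1, 3]
  left_inv := by decide
  right_inv := by decide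

/-- `⟨(0 1 2)⟩`, the centraliser of the 3-cycle. -/
def T3 : Subgroup (Equiv.Perm (Fin 4)) where
  carrier := {τ | τ * rho = rho * τ}
  mul_mem' := by
    intro a b ha hb
    show a * b * rho = rho * (a * b)
    have ha' : a * rho = rho * a := ha
    have hb' : b * rho = rho * b := hb
    rw [mul_assoc, hb', ← mul_assoc, ha', mul_assoc]
  one_mem' := by
    show 1 * rho = rho * 1
    rw [one_mul, mul_one]
  inv_mem' := by
    intro a ha
    have ha' : a * rho = rho * a := ha
    show a⁻¹ * rho = rho * a⁻¹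
    rw [inv_mul_eq_iff_eq_mul, ← mul_assoc, ha', mul_assoc, mul_inv_cancel, mul_one]

theorem mem_T3 {τ : Equiv.Perm (Fin 4)} : τ ∈ T3 ↔ τ * rho = rho * τ := Iff.rfl

theorem T3_three : ∀ τ : Equiv.Perm (Fin 4), τ * rho = rho * τ → τ 3 = 3 := by decide

theorem T3_zero : ∀ τ : Equiv.Perm (Fin 4), τ * rho = rho * τ → τ 0 = 0 → τ = 1 := by decide

theorem T3_zero3 : ∀ τ : Equiv.Perm (Fin 4), τ * rho = rho * τ → τ 0 ≠ 3 := by decide

theorem T3_ne : ∀ τ : Equiv.Perm (Fin 4), τ * rho = rho * τ → ∀ τ' : Equiv.Perm (Fin 4),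
    τ' * rho = rho * τ' → τ 0 = τ' 0 → τ = τ' := by decide

theorem card_T3 : Nat.card T3 = 3 := by
  rw [Nat.card_congr (Equiv.subtypeEquivRight (fun τ : Equiv.Perm (Fin 4) =>
    (mem_T3 : τ ∈ T3 ↔ _))), Nat.card_eq_fintype_card]
  decide

end Cfsg.Agent.H885.Tri
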