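import Cfsg.Agent.H885.Tri.Iso
import Cfsg.Agent.H885.Tri.Asm

/-!
# `Meet 3` for the eight-dimensional spaces isometric to the model (helper885)
-/

set_option autoImplicit false

namespace Cfsg.Agent.H885.Tri

open QuadraticMap Cfsg.Agent.LieClassical.OrthCore Cfsg.Agent.LieClassical.OrthTrans
  Cfsg.Agent.LieClassical.OrthSimple Cfsg.Agent.LieClassical.OrthFinite
  Cfsg.Agent.ClassicalGeometry.OrthAut1
  Cfsg.Agent.ClassicalGeometry.OrthAut2 Cfsg.Agent.ClassicalGeometry.OrthAut2b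
  Cfsg.Agent.ClassicalGeometry.OrthAut3
  Cfsg.Agent.ClassicalGeometry.OrthSemi
  Cfsg.Agent.AutOrth.Main

variable {F : Type*} [Field F]

/-- The data: two real vectors, exchanged by a permutation of the coordinates, and three singular
vectors orthogonal to both. -/
structure Dt (u v : Fin 4 → F) (n l m c : F) (π : Equiv.Perm (Fin 4))
    (p : Fin 3 → Fin 4 → K F) : Prop where
  cfg : Cfg u v n l m c
  hpi : ∀ j, v j = u (π j)
  sing : ∀ i, QK (p i) = 0
  pu : ∀ i, pr (p i) u = 0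
  pv : ∀ i, pr (p i) v = 0
  pp : ∀ i j, i ≠ j → polar QK (p i) (p j) ≠ 0

variable {V : Type*} [AddCommGroup V] [Module F V] {Q : QuadraticForm F V}
  (h : (Fin 4 → K F) ≃ₗ[F] V) (hh : ∀ w, Q (h w) = QK w)
  {u v : Fin 4 → F} {n l m c : F} {π : Equiv.Perm (Fin 4)} {p : Fin 3 → Fin 4 → K F}

/-- The coordinate permutation. -/
def cp (π : Equiv.Perm (Fin 4)) : V ≃ₗ[F] V :=
  h.symm.trans ((LinearEquiv.funCongrLeft F (K F) π).trans h)

theorem cp_apply (π : Equiv.Perm (Fin 4)) (w : Fin 4 → K F) :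
    cp h π (h w) = h (fun j => w (π j)) := by
  show h (LinearEquiv.funCongrLeft F (K F) π (h.symm (h w))) = _
  rw [h.symm_apply_apply]
  rfl

include hh

theorem cp_mem_O (π : Equiv.Perm (Fin 4)) : cp h π ∈ O Q := by
  intro x
  obtain ⟨w, rfl⟩ := h.surjective x
  rw [cp_apply, hh, hh, QK, QK]
  exact Equiv.sum_comp π (fun j => QuadraticAlgebra.norm (w j))

theorem exists_x (hG : Good Q) (D : Dt u v n l m c π p) : ∃ x : ↥(E Q),
    (∀ w, (x : V ≃ₗ[F] V) w = w - (n⁻¹ * polar Q w (h (emb u))) • h (emb u) -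
      (n⁻¹ * polar Q w (h (emb v))) • h (emb v)) ∧ x * x = 1 ∧
    ∀ w, (x : V ≃ₗ[F] V) (h w) = h (xx u v n w) := by
  have hQu : Q (h (emb u)) = n := by rw [hh, QK_emb, D.cfg.uu]
  have hQv : Q (h (emb v)) = n := by rw [hh, QK_emb, D.cfg.vv]
  have huv : polar Q (h (emb u)) (h (emb v)) = 0 := by
    rw [polar_h h hh, polar_emb, pr_emb, D.cfg.uv, mul_zero]
  have hu0 : Q (h (emb u)) ≠ 0 := by rw [hQu]; exact D.cfg.n0
  have hv0 : Q (h (emb v)) ≠ 0 := by rw [hQv]; exact D.cfg.n0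
  have hcu : cp h π (h (emb u)) = h (emb v) := by
    rw [cp_apply]
    congr 1
    funext j
    simp only [emb, D.hpi]
  have hmem : refl Q (h (emb u)) hu0 * refl Q (h (emb v)) hv0 ∈ E Q := by
    have e1 := refl_conj (cp_mem_O h hh π) hu0 (by rw [hcu]; exact hv0)
    have e2 : refl Q (cp h π (h (emb u))) (by rw [hcu]; exact hv0) =
        refl Q (h (emb v)) hv0 := by
      congr 1
    rw [e2] at e1
    rw [← e1, ← hG.commutator_eq_E]
    have e4 := Subgroup.commutator_mem_commutator (refl_mem_O hu0) (cp_mem_O h hh π)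
    rw [commutatorElement_def, refl_inv] at e4
    rwa [← mul_assoc, ← mul_assoc]
  have hform : ∀ w, (refl Q (h (emb u)) hu0 * refl Q (h (emb v)) hv0) w =
      w - (n⁻¹ * polar Q w (h (emb u))) • h (emb u) -
      (n⁻¹ * polar Q w (h (emb v))) • h (emb v) := by
    intro w
    show refl Q (h (emb u)) hu0 (refl Q (h (emb v)) hv0 w) = _
    rw [refl_apply, refl_apply, polar_sub_right, polar_smul_right, huv, hQu, hQv,
      polar_comm Q (h (emb u)) w, polar_comm Q (h (emb v)) w, smul_zero, sub_zero]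
    abel
  refine ⟨⟨_, hmem⟩, hform, ?_, ?_⟩
  · apply Subtype.ext
    show refl Q (h (emb u)) hu0 * refl Q (h (emb v)) hv0 *
      (refl Q (h (emb u)) hu0 * refl Q (h (emb v)) hv0) = 1
    have e1 := refl_comm hu0 hv0 huv
    rw [mul_assoc, ← mul_assoc (refl Q (h (emb v)) hv0), ← e1, mul_assoc, refl_mul_self, mul_one,
      refl_mul_self]
  · intro w
    show (refl Q (h (emb u)) hu0 * refl Q (h (emb v)) hv0) (h w) = _
    rw [hform, polar_h h hh, polar_h h hh, polar_emb, polar_emb, xx, map_sub, map_sub, map_smul,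
      map_smul]

/-- (V), transported. -/
theorem five [Finite F] [FiniteDimensional F V] (hG : Good Q) (h8 : Module.finrank F V = 8)
    (D : Dt u v n l m c π p) {x : ↥(E Q)}
    (hx : ∀ w, (x : V ≃ₗ[F] V) w = w - (n⁻¹ * polar Q w (h (emb u))) • h (emb u) -
      (n⁻¹ * polar Q w (h (emb v))) • h (emb v)) (α : MulAut (P Q))
    (hα : α (x : P Q) = (x : P Q)) : Pt hG α := by
  have hQu : Q (h (emb u)) = n := by rw [hh, QK_emb, D.cfg.uu]
  have hQv : Q (h (emb v)) = n := by rw [hh, QK_emb, D.cfg.vv]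
  have huv : polar Q (h (emb u)) (h (emb v)) = 0 := by
    rw [polar_h h hh, polar_emb, pr_emb, D.cfg.uv, mul_zero]
  refine pt_of_comm hG h8 D.cfg.n0 hQu hQv huv ?_ hx (p := fun i => h (p i)) ?_ ?_ ?_ ?_ α hα
  · intro t ht
    rw [← map_smul, ← map_add] at ht
    have h1 : t • emb u + emb v = 0 := h.map_eq_zero_iff.1 ht
    have h2 : ∀ j, t * u j + v j = 0 := fun j => congrArg QuadraticAlgebra.re (congrFun h1 j)
    obtain ⟨α₁, β₁, e1, e2⟩ := D.cfg.e1
    obtain ⟨α₀, β₀, e3, e4⟩ := D.cfg.e0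
    have k1 : v 0 = - (t * u 0) := by linear_combination h2 0
    have k2 : v 1 = - (t * u 1) := by linear_combination h2 1
    rw [k1] at e1 e3
    rw [k2] at e2 e4
    have k3 : (α₁ - β₁ * t) * u 0 = 0 := by linear_combination e1
    have k4 : (α₁ - β₁ * t) * u 1 = 1 := by linear_combination e2
    have k5 : α₁ - β₁ * t ≠ 0 := by
      intro h0
      rw [h0, zero_mul] at k4
      exact zero_ne_one k4
    have k6 : u 0 = 0 := (mul_eq_zero.1 k3).resolve_left k5
    rw [k6] at e3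
    apply zero_ne_one (α := F)
    rw [← e3]
    ring
  · intro i
    rw [hh]; exact D.sing i
  · intro i
    rw [polar_h h hh, polar_emb]; exact D.pu i
  · intro i
    rw [polar_h h hh, polar_emb]; exact D.pv i
  · intro i j hij
    rw [polar_h h hh]; exact D.pp i j hij

/-- (III), transported. -/
theorem three' [Finite F] (hG : Good Q) (D : Dt u v n l m c π p) (h3 : (3 : F) ≠ 0)
    {Φ : Subgroup (F ≃+* F)} (hΦ3 : IsPGroup 3 Φ) (hΦ : ∀ σ ∈ Φ, σ c = c → σ = 1) {x : ↥(E Q)}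
    (hx : ∀ w, (x : V ≃ₗ[F] V) (h w) = h (xx u v n w)) (y y' : R0 Φ)
    (he : Psi Q (tg h hh Φ y') * MulAut.conj (x : P Q) =
      MulAut.conj (x : P Q) * Psi Q (tg h hh Φ y)) : y = 1 := by
  rw [← Psi_eG, ← map_mul, ← map_mul] at he
  -- up to a scalar
  obtain ⟨a, ha⟩ : ∃ a : Fˣ, tg h hh Φ y' * eG x = eG x * tg h hh Φ y * scal Q a := by
    have h1 : (eG x * tg h hh Φ y)⁻¹ * (tg h hh Φ y' * eG x) ∈ (Psi Q).ker := by
      rw [MonoidHom.mem_ker, map_mul, map_inv, he, inv_mul_cancel]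
    rw [ker_Psi hG] at h1
    obtain ⟨a, ha⟩ := h1
    refine ⟨a, ?_⟩
    rw [ha, mul_inv_cancel_left]
  have hfun : ∀ w, y'.1 (xx u v n w) = xx u v n (y.1 ((a : F) • w)) := by
    intro w
    have h1 := congrArg (fun M : Gam Q => M.1 (h w)) ha
    have h2 : (tg h hh Φ y').1 ((x : V ≃ₗ[F] V) (h w)) =
        (x : V ≃ₗ[F] V) ((tg h hh Φ y).1 ((a : F) • h w)) := h1
    rw [hx, tg_apply, ← map_smul, tg_apply, hx] at h2
    exact h.injective h2
  -- `a ^ 2 = 1`
  have haa : (a : F) * (a : F) = 1 := by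
    have hxQ : ∀ w, QK (xx u v n w) = QK w := by
      intro w
      rw [← hh, ← hx, Q_apply, hh]
    obtain ⟨⟨M, d, τ, σ, hτ, hσ, hM⟩, rfl⟩ : ∃ z : R0 Φ, z = y := ⟨y, rfl⟩
    obtain ⟨⟨M', d', τ', σ', hτ', hσ', hM'⟩, rfl⟩ : ∃ z : R0 Φ, z = y' := ⟨y', rfl⟩
    have h1 := congrArg QK (hfun (Pi.single 0 1))
    change QK (M' _) = QK (xx u v n (M _)) at h1
    rw [hM', hM, QK_mp, hxQ, hxQ, QK_mp] at h1
    have h2 : QK (Pi.single 0 1 : Fin 4 → K F) = 1 := by
      rw [QK, Finset.sum_eq_single 0]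
      · rw [Pi.single_eq_same, map_one]
      · intro j _ hj
        rw [Pi.single_eq_of_ne hj, QuadraticAlgebra.norm_zero]
      · intro hc
        exact absurd (Finset.mem_univ _) hc
    have h4 : QK ((a : F) • (Pi.single 0 1 : Fin 4 → K F)) = (a : F) * (a : F) := by
      rw [QK, Finset.sum_eq_single 0]
      · rw [Pi.smul_apply, Pi.single_eq_same, norm_eq]
        simp [QuadraticAlgebra.re_one, QuadraticAlgebra.im_one]
      · intro j _ hj
        rw [Pi.smul_apply, Pi.single_eq_of_ne hj, smul_zero, QuadraticAlgebra.norm_zero]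
      · intro hc
        exact absurd (Finset.mem_univ _) hc
    rw [h2, map_one, h4] at h1
    exact (σ.injective (by rw [← h1, map_one])).symm
  have ha2 : a * a = 1 := Units.ext haa
  -- `scal a` is central
  have hcen : ∀ M : Gam Q, Commute (scal Q a) M := by
    intro M
    obtain ⟨σ, c', hM⟩ := M.2
    apply Subtype.ext
    ext w
    show (a : F) • M.1 w = M.1 ((a : F) • w)
    rw [hM.smul]
    congr 1
    have h1 : ((a : F) - 1) * ((a : F) + 1) = 0 := by linear_combination haa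
    rcases mul_eq_zero.1 h1 with h2 | h2
    · rw [sub_eq_zero.1 h2, map_one]
    · rw [eq_neg_of_add_eq_zero_left h2, map_neg, map_one]
  -- `a = 1`
  have hfin : Finite (R0 Φ) := inferInstance
  have h3F : Fact (Nat.Prime 3) := ⟨Nat.prime_three⟩
  obtain ⟨k, hk⟩ := (isPGroup_R0 hΦ3).exists_card_eq
  have hpow : scal Q a ^ 3 ^ k = 1 := by
    have e1 : tg h hh Φ y' = (eG x * tg h hh Φ y * (eG x)⁻¹) * scal Q a := by
      rw [eq_comm, mul_assoc, (hcen (eG x)⁻¹).symm.eq, ← mul_assoc, ← ha, mul_inv_cancel_right]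
    have e2 : tg h hh Φ y' ^ 3 ^ k = 1 := by
      rw [← map_pow, ← hk, pow_card_eq_one', map_one]
    have e3 : tg h hh Φ y ^ 3 ^ k = 1 := by
      rw [← map_pow, ← hk, pow_card_eq_one', map_one]
    rw [e1, (hcen _).symm.mul_pow, conj_pow, e3, mul_one, mul_inv_cancel, one_mul] at e2
    exact e2
  have hs1 : scal Q a = 1 := by
    have e1 : scal Q a ^ 2 = 1 := by rw [pow_two, ← map_mul, ha2, map_one]
    have e2 := pow_gcd_eq_one.2 ⟨e1, hpow⟩
    have e3 : Nat.gcd 2 (3 ^ k) = 1 := Nat.Coprime.pow_right _ (by norm_num)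
    rwa [e3, pow_one] at e2
  have ha1 : (a : F) = 1 := by
    have h1 : a = 1 := scal_injective hG (by rw [hs1, map_one])
    rw [h1]; rfl
  have hfin := three D.cfg h3 hΦ y.2 y'.2 (fun w => by rw [hfun, ha1, one_smul])
  exact Subtype.ext hfin

theorem meet_of_data [Finite F] [FiniteDimensional F V] (hG : Good Q)
    (h8 : Module.finrank F V = 8) (h3 : (3 : F) ≠ 0) (D : Dt u v n l m c π p)
    {Φ : Subgroup (F ≃+* F)} (hΦ3 : IsPGroup 3 Φ) (hΦ : ∀ σ ∈ Φ, σ c = c → σ = 1)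
    (hinj : Function.Injective (MulAut.conj : P Q →* MulAut (P Q)))
    (Γ : Subgroup (MulAut (P Q))) (hΓ : ∀ α, α ∈ Γ ↔ Pt hG α)
    (hcard : 3 ^ (Nat.card Γ).factorization 3 ≤ Nat.card (R0 Φ)) :
    Cfsg.Agent.H903.SylMeet.Meet 3 (P Q) := by
  have h3F : Fact (Nat.Prime 3) := ⟨Nat.prime_three⟩
  have hfinP : Finite (P Q) := finite_P
  obtain ⟨x, hx, hxx, hxw⟩ := exists_x h hh hG D
  have hthree := three' h hh hG D h3 hΦ3 hΦ hxw
  set θ : R0 Φ →* MulAut (P Q) := (Psi Q).comp (tg h hh Φ) with hθ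
  have hθinj : Function.Injective θ := by
    rw [injective_iff_map_eq_one]
    intro y hy
    refine hthree y 1 ?_
    have e1 : Psi Q (tg h hh Φ y) = 1 := hy
    rw [e1, map_one, map_one, one_mul, mul_one]
  refine asm hinj Γ θ.range ?_ ?_ ?_ ?_ (x := (x : P Q)) ?_ ?_ ?_
  · intro t
    obtain ⟨g, rfl⟩ := QuotientGroup.mk_surjective t
    rw [hΓ, ← Psi_eG]
    exact pt_Psi hG _
  · rintro _ ⟨y, rfl⟩
    rw [hΓ]
    exact pt_Psi hG _
  · rw [MonoidHom.range_eq_map]
    have : IsPGroup 3 (⊤ : Subgroup (R0 Φ)) := (isPGroup_R0 hΦ3).to_subgroup ⊤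
    exact this.map _
  · rwa [Nat.card_congr (MonoidHom.ofInjective hθinj).symm.toEquiv]
  · rw [← QuotientGroup.mk_mul, hxx]
    rfl
  · rintro _ ⟨y, rfl⟩ _ ⟨y', rfl⟩ he
    rw [hthree y y' he, map_one]
  · intro y hy
    rw [hΓ]
    exact five h hh hG h8 D hx y hy

end Cfsg.Agent.H885.Tri
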