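import Cfsg.Agent.H885.Tri.Grp

/-!
# A product of two real reflections is regular for `R0` (helper885)
-/

set_option autoImplicit false

namespace Cfsg.Agent.H885.Tri

variable {F : Type*} [Field F]

/-- Real vectors. -/
def emb (u : Fin 4 → F) : Fin 4 → K F := fun j => ⟨u j, 0⟩

/-- The polar form with a real vector. -/
def pr (w : Fin 4 → K F) (u : Fin 4 → F) : F := ∑ j, tr (w j) * u j

/-- The configuration of two real vectors. -/
structure Cfg (u v : Fin 4 → F) (n l m c : F) : Prop where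
  n0 : n ≠ 0
  uu : ∑ j, u j * u j = n
  vv : ∑ j, v j * v j = n
  uv : ∑ j, u j * v j = 0
  c0 : c ≠ 0
  m0 : m ≠ 0
  u3 : u 3 = c * u 0
  v3 : v 3 = c * v 0
  u2 : u 2 = l * u 0 + m * u 1
  v2 : v 2 = l * v 0 + m * v 1
  e1 : ∃ α β : F, α * u 0 + β * v 0 = 0 ∧ α * u 1 + β * v 1 = 1
  e0 : ∃ α β : F, α * u 0 + β * v 0 = 1 ∧ α * u 1 + β * v 1 = 0

/-- The plane spanned by `u` and `v`. -/
def InU (u v : Fin 4 → F) (w : Fin 4 → K F) : Prop := ∃ α β : F, w = α • emb u + β • emb v

/-- The product of the two reflections. -/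
def xx (u v : Fin 4 → F) (n : F) (w : Fin 4 → K F) : Fin 4 → K F :=
  w - (n⁻¹ * pr w u) • emb u - (n⁻¹ * pr w v) • emb v

theorem tr_add (z w : K F) : tr (z + w) = tr z + tr w := by
  simp only [tr, QuadraticAlgebra.re_add, QuadraticAlgebra.im_add]; ring

theorem tr_smul (a : F) (z : K F) : tr (a • z) = a * tr z := by
  simp only [tr, QuadraticAlgebra.re_smul, QuadraticAlgebra.im_smul, smul_eq_mul]; ring

theorem pr_smul (a : F) (w : Fin 4 → K F) (u : Fin 4 → F) : pr (a • w) u = a * pr w u := by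
  simp only [pr, Pi.smul_apply, tr_smul, Finset.mul_sum, mul_assoc]

theorem xx_smul (u v : Fin 4 → F) (n a : F) (w : Fin 4 → K F) :
    xx u v n (a • w) = a • xx u v n w := by
  have e1 : ∀ t : F, n⁻¹ * (a * t) = a * (n⁻¹ * t) := fun t => by ring
  simp only [xx, pr_smul]
  rw [smul_sub, smul_sub, smul_smul, smul_smul, e1, e1]

theorem mp_smul (d : Fin 4 → C F) (τ : Equiv.Perm (Fin 4)) (σ : F ≃+* F) (a : F)
    (w : Fin 4 → K F) : mp d τ σ (a • w) = σ a • mp d τ σ w := by
  funext j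
  rw [mp_apply, Pi.smul_apply, hat_smul, Pi.smul_apply, mp_apply, mul_smul_comm]

theorem mp_add (d : Fin 4 → C F) (τ : Equiv.Perm (Fin 4)) (σ : F ≃+* F)
    (w w' : Fin 4 → K F) : mp d τ σ (w + w') = mp d τ σ w + mp d τ σ w' := by
  funext j
  rw [mp_apply, Pi.add_apply, map_add, Pi.add_apply, mp_apply, mp_apply, mul_add]

theorem mp_sub (d : Fin 4 → C F) (τ : Equiv.Perm (Fin 4)) (σ : F ≃+* F)
    (w w' : Fin 4 → K F) : mp d τ σ (w - w') = mp d τ σ w - mp d τ σ w' := by
  funext j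
  rw [mp_apply, Pi.sub_apply, map_sub, Pi.sub_apply, mp_apply, mp_apply, mul_sub]

theorem mp_single (d : Fin 4 → C F) (τ : Equiv.Perm (Fin 4)) (σ : F ≃+* F) (i : Fin 4)
    (z : K F) : mp d τ σ (Pi.single (τ i) z) = Pi.single i (co d i * hat σ z) := by
  funext j
  rw [mp_apply]
  by_cases h : j = i
  · subst h
    rw [Pi.single_eq_same, Pi.single_eq_same]
  · rw [Pi.single_eq_of_ne h, Pi.single_eq_of_ne (fun h' => h (τ.injective h')), map_zero,
      mul_zero]

section cfg

variable {u v : Fin 4 → F} {n l m c : F} (H : Cfg u v n l m c)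

include H

theorem InU.three {w : Fin 4 → K F} (h : InU u v w) : w 3 = c • w 0 := by
  obtain ⟨α, β, rfl⟩ := h
  simp only [Pi.add_apply, Pi.smul_apply, emb, H.u3, H.v3]
  ext <;> simp; ring

theorem InU.two {w : Fin 4 → K F} (h : InU u v w) : w 2 = l • w 0 + m • w 1 := by
  obtain ⟨α, β, rfl⟩ := h
  simp only [Pi.add_apply, Pi.smul_apply, emb, H.u2, H.v2]
  ext <;> simp; ring

omit H in
theorem InU.im {w : Fin 4 → K F} (h : InU u v w) (j : Fin 4) : (w j).im = 0 := by
  obtain ⟨α, β, rfl⟩ := h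
  simp [emb]

theorem InU.single {i : Fin 4} {z : K F} (h : InU u v (Pi.single i z)) : z = 0 := by
  have h3 := InU.three H h
  have h2 := InU.two H h
  fin_cases i
  · simp at h3
    exact (smul_eq_zero.1 h3.symm).resolve_left H.c0
  · simp at h2
    exact (smul_eq_zero.1 h2.symm).resolve_left H.m0
  · simpa using h2
  · simpa using h3

omit H in
theorem pr_single {j : Fin 4} (u : Fin 4 → F) : pr (Pi.single j (th F)) u = 0 := by
  apply Finset.sum_eq_zero
  intro i _
  by_cases h : i = j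
  · subst h
    rw [Pi.single_eq_same, tr_th, zero_mul]
  · rw [Pi.single_eq_of_ne h]
    simp [tr]

omit H in
theorem xx_single (j : Fin 4) : xx u v n (Pi.single j (th F)) = Pi.single j (th F) := by
  rw [xx, pr_single, pr_single]
  simp

/-- Elements of `U` are of the form `(1 - x) w`. -/
theorem xx_im {α β : F} {s : Fin 4 → F} (hs : ∀ j, s j = α * u j + β * v j) :
    xx u v n (fun j => (⟨0, - s j⟩ : K F)) = (fun j => (⟨0, - s j⟩ : K F)) - emb s := by
  have h1 : pr (fun j => (⟨0, - s j⟩ : K F)) u = α * n := by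
    have e : ∀ j, tr (⟨0, - s j⟩ : K F) * u j = α * (u j * u j) + β * (u j * v j) := by
      intro j
      rw [tr, hs]; ring
    rw [pr, Finset.sum_congr rfl fun j _ => e j, Finset.sum_add_distrib, ← Finset.mul_sum,
      ← Finset.mul_sum, H.uu, H.uv]
    ring
  have h2 : pr (fun j => (⟨0, - s j⟩ : K F)) v = β * n := by
    have e : ∀ j, tr (⟨0, - s j⟩ : K F) * v j = α * (u j * v j) + β * (v j * v j) := by
      intro j
      rw [tr, hs]; ring
    rw [pr, Finset.sum_congr rfl fun j _ => e j, Finset.sum_add_distrib, ← Finset.mul_sum,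
      ← Finset.mul_sum, H.vv, H.uv]
    ring
  have hn := H.n0
  have e1 : n⁻¹ * (α * n) = α := by field_simp
  have e2 : n⁻¹ * (β * n) = β := by field_simp
  rw [xx, h1, h2, e1, e2, sub_sub]
  congr 1
  funext j
  simp only [Pi.add_apply, Pi.smul_apply, emb, hs]
  ext <;> simp

/-- (III): no element of `R0` other than `1` is mapped into `R0` by the conjugation with `x`. -/
theorem three (h3 : (3 : F) ≠ 0) {Φ : Subgroup (F ≃+* F)} (hΦ : ∀ σ ∈ Φ, σ c = c → σ = 1)
    {y y' : Equiv.Perm (Fin 4 → K F)} (hy : y ∈ R0 Φ) (hy' : y' ∈ R0 Φ)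
    (h : ∀ w, y' (xx u v n w) = xx u v n (y w)) : y = 1 := by
  obtain ⟨d, τ, σ, hτ, hσ, hy⟩ := hy
  obtain ⟨d', τ', σ', hτ', hσ', hy'⟩ := hy'
  simp only [hy, hy'] at h
  have hth : ∀ {z : K F}, th F * z = 0 → z = 0 := fun hz =>
    eq_zero_of_mul (by rw [norm_th]; exact h3) hz
  have hco : ∀ {d : Fin 4 → C F} {j : Fin 4} {z : K F}, co d j * z = 0 → z = 0 := fun hz =>
    eq_zero_of_mul (by rw [norm_co]; exact one_ne_zero) hz
  have hth0 : th F ≠ 0 := by
    intro h0
    apply h3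
    rw [← norm_th, h0, QuadraticAlgebra.norm_zero]
  -- differences lie in `U`
  have hdiff : ∀ j, InU u v (mp d τ σ (Pi.single j (th F)) - mp d' τ' σ' (Pi.single j (th F))) := by
    intro j
    have h1 := h (Pi.single j (th F))
    rw [xx_single] at h1
    rw [h1, xx]
    exact ⟨_, _, by abel⟩
  -- `τ = τ'`
  have hττ : τ = τ' := by
    by_contra hne
    obtain ⟨i, hi⟩ := τ.surjective (τ' 0)
    have hi0 : i ≠ 0 := by
      rintro rfl
      exact hne (T3_ne _ hτ _ hτ' hi)
    have hi3 : i ≠ 3 := by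
      rintro rfl
      rw [T3_three _ hτ] at hi
      exact T3_zero3 _ hτ' hi.symm
    have h1 := InU.three H (hdiff (τ' 0))
    rw [mp_single, ← hi, mp_single, Pi.sub_apply, Pi.sub_apply, Pi.single_eq_of_ne hi3.symm,
      Pi.single_eq_of_ne hi0.symm, Pi.single_eq_same, Pi.single_eq_of_ne (by decide), sub_zero,
      zero_sub, hat_th] at h1
    have h2 := (smul_eq_zero.1 h1.symm).resolve_left H.c0
    rw [neg_eq_zero] at h2
    exact hth0 (hco h2)
  subst hττ
  -- `d = d'`
  have hdd : ∀ i, co d i = co d' i := by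
    intro i
    have h1 := hdiff (τ i)
    rw [mp_single, mp_single, hat_th, hat_th, ← Pi.single_sub] at h1
    have h2 := InU.single H h1
    rw [← sub_mul, mul_comm] at h2
    exact sub_eq_zero.1 (hth h2)
  -- `σ = σ'`
  have hσσ : σ = σ' := by
    ext a
    have h1 := h (a • Pi.single (τ 0) (th F))
    have h1' := h (Pi.single (τ 0) (th F))
    rw [xx_single] at h1'
    rw [xx_smul, xx_single, mp_smul, mp_smul, xx_smul, ← h1', ← sub_eq_zero, ← sub_smul,
      mp_single, hat_th] at h1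
    rcases smul_eq_zero.1 h1 with h2 | h2
    · exact (sub_eq_zero.1 h2).symm
    · exfalso
      have h4 := congrFun h2 0
      rw [Pi.single_eq_same] at h4
      exact hth0 (hco h4)
  subst hσσ
  have hdd' : d = d' := by
    funext j
    apply Subtype.ext
    apply Units.ext
    exact hdd j
  subst hdd'
  -- `y U ≤ U`
  have hyU : ∀ (α β : F) (s : Fin 4 → F), (∀ j, s j = α * u j + β * v j) →
      InU u v (mp d τ σ (emb s)) := by
    intro α β s hs
    have h1 := h (fun j => (⟨0, - s j⟩ : K F))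
    rw [xx_im H hs, mp_sub, xx] at h1
    refine ⟨n⁻¹ * pr (mp d τ σ fun j => (⟨0, - s j⟩ : K F)) u,
      n⁻¹ * pr (mp d τ σ fun j => (⟨0, - s j⟩ : K F)) v, ?_⟩
    have h2 : mp d τ σ (emb s) = mp d τ σ (fun j => (⟨0, - s j⟩ : K F)) -
        (mp d τ σ (fun j => (⟨0, - s j⟩ : K F)) - mp d τ σ (emb s)) := by abel
    rw [h2, h1]
    abel
  obtain ⟨α₁, β₁, e11, e12⟩ := H.e1
  obtain ⟨α₀, β₀, e01, e02⟩ := H.e0
  have k1 := hyU α₁ β₁ (fun j => α₁ * u j + β₁ * v j) (fun _ => rfl)
  have k0 := hyU α₀ β₀ (fun j => α₀ * u j + β₀ * v j) (fun _ => rfl)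
  set s₁ : Fin 4 → F := fun j => α₁ * u j + β₁ * v j with hs₁
  set s₀ : Fin 4 → F := fun j => α₀ * u j + β₀ * v j with hs₀
  have s10 : s₁ 0 = 0 := e11
  have s11 : s₁ 1 = 1 := e12
  have s12 : s₁ 2 = m := by
    show α₁ * u 2 + β₁ * v 2 = m
    rw [H.u2, H.v2]; linear_combination l * e11 + m * e12
  have s13 : s₁ 3 = 0 := by
    show α₁ * u 3 + β₁ * v 3 = 0
    rw [H.u3, H.v3]; linear_combination c * e11
  have s00 : s₀ 0 = 1 := e01
  have s03 : s₀ 3 = c := by
    show α₀ * u 3 + β₀ * v 3 = c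
    rw [H.u3, H.v3]; linear_combination c * e01
  -- `τ = 1`
  have hτ1 : τ = 1 := by
    have h1 := InU.three H k1
    rw [mp_apply, mp_apply, T3_three _ hτ] at h1
    have h2 : emb s₁ 3 = 0 := by
      rw [emb, s13]; rfl
    rw [h2, map_zero, mul_zero] at h1
    have h4 := hco ((smul_eq_zero.1 h1.symm).resolve_left H.c0)
    have h5 : s₁ (τ 0) = 0 := congrArg QuadraticAlgebra.re (hat_eq_zero h4)
    apply T3_zero _ hτ
    have h6 := T3_zero3 _ hτ
    generalize τ 0 = i at h5 h6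
    fin_cases i
    · rfl
    · exact absurd h5 (by change s₁ 1 ≠ 0; rw [s11]; exact one_ne_zero)
    · exact absurd h5 (by change s₁ 2 ≠ 0; rw [s12]; exact H.m0)
    · exact absurd rfl h6
  subst hτ1
  have him : ∀ (s : Fin 4 → F) (j : Fin 4), InU u v (mp d 1 σ (emb s)) → s j ≠ 0 → d j = 1 := by
    intro s j h1 h2
    apply eq_one_of_real
    have h4 := InU.im h1 j
    rw [mp_apply] at h4
    simp only [QuadraticAlgebra.im_mul, hat_re, hat_im, emb, Equiv.Perm.coe_one, id_eq,
      map_zero, mul_zero, zero_add, add_zero] at h4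
    exact (mul_eq_zero.1 h4).resolve_right (by simpa using h2)
  have d1 : d 1 = 1 := him s₁ 1 k1 (by rw [s11]; exact one_ne_zero)
  have d2 : d 2 = 1 := him s₁ 2 k1 (by rw [s12]; exact H.m0)
  have d0 : d 0 = 1 := him s₀ 0 k0 (by rw [s00]; exact one_ne_zero)
  have d3 : d 3 = 1 := him s₀ 3 k0 (by rw [s03]; exact H.c0)
  have hd : d = 1 := by
    funext j
    fin_cases j
    · exact d0
    · exact d1
    · exact d2
    · exact d3
  subst hd
  have hσ1 : σ = 1 := by
    apply hΦ σ hσ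
    have h1 := congrArg QuadraticAlgebra.re (InU.three H k0)
    rw [mp_apply, mp_apply] at h1
    have h2 : ∀ j, co (1 : Fin 4 → C F) j = 1 := fun j => rfl
    rw [h2, h2, one_mul, one_mul] at h1
    simp only [Equiv.Perm.coe_one, id_eq, hat_re, QuadraticAlgebra.re_smul, emb, s00, s03,
      map_one, smul_eq_mul, mul_one] at h1
    exact h1
  subst hσ1
  ext1 w
  rw [hy, mp_one]
  rfl

end cfg

end Cfsg.Agent.H885.Tri
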